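import Cfsg.Agent.H16.D.THs
import Cfsg.Agent.H16.D.THk.R0

/-! Generated by tools/h16 (computation kit). -/

set_option maxRecDepth 100000
set_option maxHeartbeats 0
set_option Elab.async false

namespace H16.THk

open H26 (jn)
open DC DTH THd Subgroup
abbrev qw := q
theorem qokw : qw.OK := qok
noncomputable def Cw : List ℕ := [cw_0, c9, cw_2, cw_3, cw_4, cw_5, cw_6, cw_7, cw_8, cw_9, cw_10]
noncomputable def Vw : List (List ℕ) := [[],
  [nat_lit 9],
  [nat_lit 9, nat_lit 3, nat_lit 9],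
  [nat_lit 9, nat_lit 7, nat_lit 1, nat_lit 9],
  [nat_lit 9, nat_lit 3, nat_lit 1, nat_lit 9],
  [nat_lit 9, nat_lit 8, nat_lit 3, nat_lit 1, nat_lit 9],
  [nat_lit 9, nat_lit 7, nat_lit 3, nat_lit 1, nat_lit 9],
  [nat_lit 9, nat_lit 7, nat_lit 1, nat_lit 9, nat_lit 6, nat_lit 3, nat_lit 2, nat_lit 3, nat_lit 4, nat_lit 8, nat_lit 4, nat_lit 3, nat_lit 2, nat_lit 3, nat_lit 1, nat_lit 9],
  [nat_lit 9, nat_lit 7, nat_lit 1, nat_lit 9, nat_lit 3, nat_lit 2, nat_lit 3, nat_lit 4, nat_lit 8, nat_lit 4, nat_lit 8, nat_lit 3, nat_lit 2, nat_lit 3, nat_lit 1, nat_lit 9],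
  [nat_lit 9, nat_lit 8, nat_lit 3, nat_lit 1, nat_lit 9, nat_lit 4, nat_lit 7, nat_lit 3, nat_lit 4, nat_lit 8, nat_lit 0, nat_lit 1, nat_lit 2, nat_lit 3, nat_lit 4, nat_lit 8, nat_lit 3, nat_lit 2, nat_lit 3, nat_lit 1, nat_lit 9],
  [nat_lit 9, nat_lit 7, nat_lit 1, nat_lit 9, nat_lit 3, nat_lit 1, nat_lit 9]]
noncomputable def gw := wds g Vw
noncomputable def Iv : List (List ℕ) := [[nat_lit 0, nat_lit 0],
  [nat_lit 1, nat_lit 1],
  [nat_lit 2, nat_lit 2],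
  [nat_lit 3, nat_lit 3],
  [nat_lit 4, nat_lit 4],
  [nat_lit 5, nat_lit 6],
  [nat_lit 6, nat_lit 5],
  [nat_lit 7, nat_lit 8],
  [nat_lit 8, nat_lit 7],
  [nat_lit 9, nat_lit 10],
  [nat_lit 10, nat_lit 9]]
noncomputable def clD800 : List (List ℕ × ℕ × ℕ) :=
  ([nat_lit 1, nat_lit 2, nat_lit 3, nat_lit 2, nat_lit 1, nat_lit 4, nat_lit 3, nat_lit 2, nat_lit 1, nat_lit 7, nat_lit 4, nat_lit 7, nat_lit 6], (nat_lit 975258967), (nat_lit 0)) ::
  ([nat_lit 1, nat_lit 0, nat_lit 2, nat_lit 3, nat_lit 2, nat_lit 1, nat_lit 0, nat_lit 4, nat_lit 3, nat_lit 2, nat_lit 1, nat_lit 0, nat_lit 8], (nat_lit 975519398), (nat_lit 0)) ::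
  ([nat_lit 1, nat_lit 2, nat_lit 3, nat_lit 2, nat_lit 4, nat_lit 3, nat_lit 2, nat_lit 7, nat_lit 4, nat_lit 3, nat_lit 2, nat_lit 1, nat_lit 5], (nat_lit 975654163), (nat_lit 0)) ::
  ([nat_lit 1, nat_lit 0, nat_lit 2, nat_lit 3, nat_lit 2, nat_lit 1, nat_lit 4, nat_lit 3, nat_lit 2, nat_lit 8, nat_lit 4, nat_lit 5], (nat_lit 976781961), (nat_lit 0)) ::
  ([nat_lit 1, nat_lit 2, nat_lit 3, nat_lit 2, nat_lit 1, nat_lit 4, nat_lit 3, nat_lit 8, nat_lit 4, nat_lit 8, nat_lit 4], (nat_lit 977317212), (nat_lit 0)) ::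
  ([nat_lit 1, nat_lit 0, nat_lit 2, nat_lit 3, nat_lit 2, nat_lit 4, nat_lit 3, nat_lit 8, nat_lit 4, nat_lit 8, nat_lit 4], (nat_lit 981842414), (nat_lit 0)) ::
  ([nat_lit 1, nat_lit 0, nat_lit 2, nat_lit 3, nat_lit 2, nat_lit 1, nat_lit 4, nat_lit 3, nat_lit 2, nat_lit 1, nat_lit 0, nat_lit 8], (nat_lit 982453480), (nat_lit 0)) ::
  ([nat_lit 1, nat_lit 2, nat_lit 3, nat_lit 2, nat_lit 1, nat_lit 0, nat_lit 4, nat_lit 3, nat_lit 2, nat_lit 3, nat_lit 7, nat_lit 6], (nat_lit 982797389), (nat_lit 0)) ::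
  ([nat_lit 1, nat_lit 2, nat_lit 3, nat_lit 2, nat_lit 1, nat_lit 4, nat_lit 3, nat_lit 2, nat_lit 8, nat_lit 4, nat_lit 7, nat_lit 7], (nat_lit 983967160), (nat_lit 0)) ::
  ([nat_lit 1, nat_lit 0, nat_lit 2, nat_lit 1, nat_lit 3, nat_lit 2, nat_lit 1, nat_lit 4, nat_lit 7, nat_lit 4], (nat_lit 986217994), (nat_lit 0)) ::
  ([nat_lit 1, nat_lit 0, nat_lit 2, nat_lit 3, nat_lit 2, nat_lit 1, nat_lit 4, nat_lit 3, nat_lit 2, nat_lit 1, nat_lit 8, nat_lit 4, nat_lit 6, nat_lit 7], (nat_lit 986568830), (nat_lit 0)) ::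
  ([nat_lit 1, nat_lit 0, nat_lit 2, nat_lit 3, nat_lit 2, nat_lit 1, nat_lit 0, nat_lit 4, nat_lit 3, nat_lit 2, nat_lit 1, nat_lit 0], (nat_lit 987286063), (nat_lit 0)) ::
  ([nat_lit 1, nat_lit 2, nat_lit 3, nat_lit 2, nat_lit 1, nat_lit 0, nat_lit 4, nat_lit 3, nat_lit 2, nat_lit 8, nat_lit 4, nat_lit 7], (nat_lit 988079627), (nat_lit 0)) ::
  ([nat_lit 1, nat_lit 0, nat_lit 2, nat_lit 3, nat_lit 2, nat_lit 1, nat_lit 0, nat_lit 4, nat_lit 8, nat_lit 5], (nat_lit 989875592), (nat_lit 0)) ::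
  ([nat_lit 1, nat_lit 2, nat_lit 3, nat_lit 4, nat_lit 7], (nat_lit 990286164), (nat_lit 0)) ::
  ([nat_lit 1, nat_lit 2, nat_lit 3, nat_lit 2, nat_lit 4, nat_lit 3, nat_lit 2, nat_lit 7, nat_lit 4, nat_lit 7, nat_lit 4, nat_lit 3], (nat_lit 992871574), (nat_lit 0)) ::
  ([nat_lit 1, nat_lit 0, nat_lit 2, nat_lit 3, nat_lit 2, nat_lit 1, nat_lit 0, nat_lit 4, nat_lit 3, nat_lit 7, nat_lit 4, nat_lit 6], (nat_lit 993510585), (nat_lit 0)) ::
  ([nat_lit 1, nat_lit 2, nat_lit 3, nat_lit 2, nat_lit 4, nat_lit 3, nat_lit 2, nat_lit 7, nat_lit 4, nat_lit 8, nat_lit 8], (nat_lit 997320941), (nat_lit 0)) ::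
  ([nat_lit 1, nat_lit 2, nat_lit 3, nat_lit 2, nat_lit 4, nat_lit 3, nat_lit 2, nat_lit 1, nat_lit 8, nat_lit 4, nat_lit 3], (nat_lit 998136159), (nat_lit 0)) ::
  []
noncomputable def clD750 : List (List ℕ × ℕ × ℕ) :=
  ([nat_lit 1, nat_lit 2, nat_lit 3, nat_lit 2, nat_lit 4, nat_lit 3, nat_lit 2, nat_lit 1, nat_lit 7, nat_lit 4, nat_lit 3, nat_lit 2], (nat_lit 914442424), (nat_lit 0)) ::
  ([nat_lit 1, nat_lit 2, nat_lit 3, nat_lit 2, nat_lit 1, nat_lit 4, nat_lit 3, nat_lit 7, nat_lit 4, nat_lit 8, nat_lit 5], (nat_lit 914730435), (nat_lit 0)) ::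
  ([nat_lit 1, nat_lit 2, nat_lit 3, nat_lit 2, nat_lit 1, nat_lit 0, nat_lit 4, nat_lit 3, nat_lit 2, nat_lit 8, nat_lit 4, nat_lit 6, nat_lit 7], (nat_lit 914813705), (nat_lit 0)) ::
  ([nat_lit 1, nat_lit 2, nat_lit 3, nat_lit 2, nat_lit 4, nat_lit 3, nat_lit 2, nat_lit 1, nat_lit 0, nat_lit 7, nat_lit 6], (nat_lit 915579049), (nat_lit 0)) ::
  ([nat_lit 1, nat_lit 0, nat_lit 2, nat_lit 3, nat_lit 2, nat_lit 1, nat_lit 4, nat_lit 3, nat_lit 2, nat_lit 8], (nat_lit 917253022), (nat_lit 0)) ::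
  ([nat_lit 1, nat_lit 2, nat_lit 3, nat_lit 2, nat_lit 1, nat_lit 4, nat_lit 3, nat_lit 2, nat_lit 1, nat_lit 7, nat_lit 4, nat_lit 8], (nat_lit 917734609), (nat_lit 0)) ::
  ([nat_lit 1, nat_lit 0, nat_lit 2, nat_lit 3, nat_lit 2, nat_lit 1, nat_lit 4, nat_lit 3, nat_lit 2, nat_lit 1, nat_lit 8, nat_lit 4, nat_lit 7], (nat_lit 921314575), (nat_lit 0)) ::
  ([nat_lit 1, nat_lit 2, nat_lit 3, nat_lit 4, nat_lit 7, nat_lit 5], (nat_lit 924713426), (nat_lit 0)) ::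
  ([nat_lit 1, nat_lit 2, nat_lit 3, nat_lit 2, nat_lit 4, nat_lit 3, nat_lit 2, nat_lit 8, nat_lit 4, nat_lit 3, nat_lit 6], (nat_lit 925027652), (nat_lit 0)) ::
  ([nat_lit 1, nat_lit 2, nat_lit 3, nat_lit 2, nat_lit 1, nat_lit 4, nat_lit 3, nat_lit 7, nat_lit 4, nat_lit 7, nat_lit 6], (nat_lit 927733111), (nat_lit 0)) ::
  ([nat_lit 1, nat_lit 2, nat_lit 3, nat_lit 2, nat_lit 1, nat_lit 0, nat_lit 4, nat_lit 3, nat_lit 2, nat_lit 8, nat_lit 5], (nat_lit 928386474), (nat_lit 0)) ::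
  ([nat_lit 1, nat_lit 2, nat_lit 3, nat_lit 2, nat_lit 4, nat_lit 3, nat_lit 2, nat_lit 8, nat_lit 4, nat_lit 3, nat_lit 5], (nat_lit 930803232), (nat_lit 0)) ::
  ([nat_lit 1, nat_lit 2, nat_lit 3, nat_lit 2, nat_lit 1, nat_lit 4, nat_lit 3, nat_lit 2, nat_lit 1, nat_lit 0], (nat_lit 932274900), (nat_lit 0)) ::
  ([nat_lit 1, nat_lit 0, nat_lit 2, nat_lit 3, nat_lit 2, nat_lit 4, nat_lit 3, nat_lit 2, nat_lit 8, nat_lit 4, nat_lit 6], (nat_lit 932657559), (nat_lit 0)) ::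
  ([nat_lit 1, nat_lit 0, nat_lit 2, nat_lit 3, nat_lit 2, nat_lit 4, nat_lit 3, nat_lit 2, nat_lit 8, nat_lit 4, nat_lit 3, nat_lit 2, nat_lit 1, nat_lit 7], (nat_lit 932699301), (nat_lit 0)) ::
  ([nat_lit 1, nat_lit 2, nat_lit 3, nat_lit 2, nat_lit 4, nat_lit 8, nat_lit 5], (nat_lit 933180084), (nat_lit 0)) ::
  ([nat_lit 1, nat_lit 2, nat_lit 3, nat_lit 2, nat_lit 1, nat_lit 4, nat_lit 3, nat_lit 2, nat_lit 1, nat_lit 0, nat_lit 3, nat_lit 8, nat_lit 5], (nat_lit 933970190), (nat_lit 0)) ::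
  ([nat_lit 1, nat_lit 0, nat_lit 2, nat_lit 3, nat_lit 2, nat_lit 1, nat_lit 0, nat_lit 4, nat_lit 3, nat_lit 2, nat_lit 7], (nat_lit 934035585), (nat_lit 0)) ::
  ([nat_lit 1, nat_lit 2, nat_lit 3, nat_lit 2, nat_lit 4, nat_lit 3, nat_lit 2, nat_lit 8, nat_lit 4, nat_lit 5, nat_lit 7], (nat_lit 938088998), (nat_lit 0)) ::
  ([nat_lit 1, nat_lit 0, nat_lit 2, nat_lit 3, nat_lit 2, nat_lit 1, nat_lit 4, nat_lit 3, nat_lit 2, nat_lit 7, nat_lit 6], (nat_lit 938131821), (nat_lit 0)) ::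
  ([nat_lit 1, nat_lit 0, nat_lit 2, nat_lit 3, nat_lit 2, nat_lit 4, nat_lit 3, nat_lit 2, nat_lit 7, nat_lit 4, nat_lit 3, nat_lit 7], (nat_lit 942282969), (nat_lit 0)) ::
  ([nat_lit 1, nat_lit 0, nat_lit 2, nat_lit 3, nat_lit 2, nat_lit 4, nat_lit 3, nat_lit 2, nat_lit 8, nat_lit 4, nat_lit 3, nat_lit 8, nat_lit 4], (nat_lit 942412169), (nat_lit 0)) ::
  ([nat_lit 1, nat_lit 0, nat_lit 2, nat_lit 3, nat_lit 2, nat_lit 4, nat_lit 3, nat_lit 2, nat_lit 8, nat_lit 4, nat_lit 3, nat_lit 2, nat_lit 1], (nat_lit 942432953), (nat_lit 0)) ::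
  ([nat_lit 1, nat_lit 2, nat_lit 3, nat_lit 2, nat_lit 4, nat_lit 3, nat_lit 2, nat_lit 1, nat_lit 0, nat_lit 8, nat_lit 5], (nat_lit 944130962), (nat_lit 0)) ::
  ([nat_lit 1, nat_lit 2, nat_lit 3, nat_lit 2, nat_lit 1, nat_lit 0, nat_lit 4, nat_lit 3, nat_lit 8, nat_lit 4, nat_lit 7, nat_lit 6], (nat_lit 944596481), (nat_lit 0)) ::
  ([nat_lit 1, nat_lit 2, nat_lit 3, nat_lit 2, nat_lit 1, nat_lit 0, nat_lit 4, nat_lit 3, nat_lit 2, nat_lit 3], (nat_lit 948820373), (nat_lit 0)) ::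
  ([nat_lit 1, nat_lit 2, nat_lit 3, nat_lit 2, nat_lit 1, nat_lit 4, nat_lit 3, nat_lit 8, nat_lit 4, nat_lit 6], (nat_lit 948855640), (nat_lit 0)) ::
  ([nat_lit 1, nat_lit 2, nat_lit 3, nat_lit 2, nat_lit 1, nat_lit 4, nat_lit 3, nat_lit 7, nat_lit 4, nat_lit 5, nat_lit 8], (nat_lit 950111523), (nat_lit 0)) ::
  ([nat_lit 1, nat_lit 2, nat_lit 3, nat_lit 2, nat_lit 1, nat_lit 0, nat_lit 4, nat_lit 3, nat_lit 2, nat_lit 1], (nat_lit 952871565), (nat_lit 0)) ::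
  ([nat_lit 1, nat_lit 2, nat_lit 3, nat_lit 2, nat_lit 1, nat_lit 4, nat_lit 3, nat_lit 2, nat_lit 8, nat_lit 4, nat_lit 8, nat_lit 4], (nat_lit 955325833), (nat_lit 0)) ::
  ([nat_lit 1, nat_lit 0, nat_lit 2, nat_lit 3, nat_lit 2, nat_lit 4, nat_lit 3, nat_lit 2, nat_lit 1, nat_lit 8, nat_lit 4, nat_lit 6, nat_lit 7], (nat_lit 957895412), (nat_lit 0)) ::
  ([nat_lit 1, nat_lit 2, nat_lit 3, nat_lit 2, nat_lit 4, nat_lit 3, nat_lit 2, nat_lit 7, nat_lit 4, nat_lit 6], (nat_lit 958985446), (nat_lit 0)) ::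
  ([nat_lit 1, nat_lit 2, nat_lit 3, nat_lit 2, nat_lit 1, nat_lit 4, nat_lit 3, nat_lit 2, nat_lit 7, nat_lit 4, nat_lit 8, nat_lit 5], (nat_lit 959324002), (nat_lit 0)) ::
  ([nat_lit 1, nat_lit 2, nat_lit 3, nat_lit 2, nat_lit 4, nat_lit 3, nat_lit 7, nat_lit 4, nat_lit 7, nat_lit 4], (nat_lit 959651379), (nat_lit 0)) ::
  ([nat_lit 1, nat_lit 2, nat_lit 3, nat_lit 2, nat_lit 1, nat_lit 0, nat_lit 4, nat_lit 3, nat_lit 2, nat_lit 1, nat_lit 7, nat_lit 5], (nat_lit 960271185), (nat_lit 0)) ::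
  ([nat_lit 1, nat_lit 2, nat_lit 3, nat_lit 2, nat_lit 1, nat_lit 4, nat_lit 3, nat_lit 2, nat_lit 1, nat_lit 3, nat_lit 2, nat_lit 7, nat_lit 6], (nat_lit 960401750), (nat_lit 0)) ::
  ([nat_lit 1, nat_lit 0, nat_lit 2, nat_lit 3, nat_lit 2, nat_lit 4, nat_lit 3, nat_lit 8, nat_lit 4, nat_lit 8], (nat_lit 964287659), (nat_lit 0)) ::
  ([nat_lit 1, nat_lit 2, nat_lit 3, nat_lit 2, nat_lit 1, nat_lit 4, nat_lit 3, nat_lit 2, nat_lit 1, nat_lit 0, nat_lit 7, nat_lit 4], (nat_lit 964546569), (nat_lit 0)) ::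
  ([nat_lit 1, nat_lit 2, nat_lit 3, nat_lit 2, nat_lit 4, nat_lit 3, nat_lit 8, nat_lit 4], (nat_lit 964607282), (nat_lit 0)) ::
  ([nat_lit 1, nat_lit 2, nat_lit 3, nat_lit 2, nat_lit 1, nat_lit 4, nat_lit 3, nat_lit 2, nat_lit 1, nat_lit 7, nat_lit 5], (nat_lit 965246914), (nat_lit 0)) ::
  ([nat_lit 1, nat_lit 0, nat_lit 2, nat_lit 3, nat_lit 2, nat_lit 1, nat_lit 0, nat_lit 4, nat_lit 3, nat_lit 8, nat_lit 4, nat_lit 8], (nat_lit 965354256), (nat_lit 0)) ::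
  ([nat_lit 1, nat_lit 0, nat_lit 2, nat_lit 3, nat_lit 2, nat_lit 4, nat_lit 3, nat_lit 2, nat_lit 8, nat_lit 4, nat_lit 3, nat_lit 2, nat_lit 8, nat_lit 4], (nat_lit 965500367), (nat_lit 0)) ::
  ([nat_lit 1, nat_lit 2, nat_lit 3, nat_lit 2, nat_lit 1, nat_lit 4, nat_lit 3, nat_lit 8, nat_lit 6], (nat_lit 966697116), (nat_lit 0)) ::
  ([nat_lit 1, nat_lit 0, nat_lit 2, nat_lit 3, nat_lit 2, nat_lit 4, nat_lit 3, nat_lit 2, nat_lit 8, nat_lit 4, nat_lit 3, nat_lit 2, nat_lit 7], (nat_lit 967784256), (nat_lit 0)) ::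
  ([nat_lit 1, nat_lit 0, nat_lit 2, nat_lit 3, nat_lit 2, nat_lit 1, nat_lit 4], (nat_lit 968312559), (nat_lit 0)) ::
  ([nat_lit 1, nat_lit 2, nat_lit 3, nat_lit 2, nat_lit 4, nat_lit 3, nat_lit 2, nat_lit 1, nat_lit 7, nat_lit 5], (nat_lit 972222724), (nat_lit 0)) ::
  ([nat_lit 1, nat_lit 0, nat_lit 2, nat_lit 3, nat_lit 2, nat_lit 4, nat_lit 3, nat_lit 2, nat_lit 7, nat_lit 4, nat_lit 3, nat_lit 5], (nat_lit 972352036), (nat_lit 0)) ::
  ([nat_lit 1, nat_lit 2, nat_lit 3, nat_lit 2, nat_lit 1, nat_lit 0, nat_lit 4, nat_lit 7], (nat_lit 972933622), (nat_lit 0)) ::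
  ([nat_lit 1, nat_lit 2, nat_lit 3, nat_lit 2, nat_lit 4, nat_lit 3, nat_lit 2, nat_lit 7, nat_lit 4, nat_lit 3, nat_lit 2, nat_lit 7, nat_lit 5], (nat_lit 972970025), (nat_lit 0)) ::
  ([nat_lit 1, nat_lit 2, nat_lit 3, nat_lit 2, nat_lit 1, nat_lit 4, nat_lit 3, nat_lit 7, nat_lit 5], (nat_lit 973737826), (nat_lit 0)) ::
  clD800
noncomputable def clD700 : List (List ℕ × ℕ × ℕ) :=
  ([nat_lit 1, nat_lit 0, nat_lit 2, nat_lit 3, nat_lit 2, nat_lit 1, nat_lit 0, nat_lit 4, nat_lit 3, nat_lit 2, nat_lit 7, nat_lit 4, nat_lit 7, nat_lit 5], (nat_lit 851570691), (nat_lit 0)) ::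
  ([nat_lit 1, nat_lit 2, nat_lit 3, nat_lit 2, nat_lit 4, nat_lit 3, nat_lit 2, nat_lit 1, nat_lit 8], (nat_lit 853796661), (nat_lit 0)) ::
  ([nat_lit 1, nat_lit 0, nat_lit 2, nat_lit 3, nat_lit 2, nat_lit 1, nat_lit 0, nat_lit 4, nat_lit 8], (nat_lit 855337282), (nat_lit 0)) ::
  ([nat_lit 1, nat_lit 2, nat_lit 3, nat_lit 2, nat_lit 4, nat_lit 3, nat_lit 2, nat_lit 1, nat_lit 0, nat_lit 8, nat_lit 4, nat_lit 7], (nat_lit 856176687), (nat_lit 0)) ::
  ([nat_lit 1, nat_lit 0, nat_lit 2, nat_lit 3, nat_lit 2, nat_lit 1, nat_lit 4, nat_lit 3, nat_lit 2, nat_lit 1, nat_lit 8, nat_lit 4, nat_lit 3, nat_lit 8], (nat_lit 857540049), (nat_lit 0)) ::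
  ([nat_lit 1, nat_lit 0, nat_lit 2, nat_lit 3, nat_lit 2, nat_lit 4, nat_lit 3, nat_lit 2, nat_lit 8, nat_lit 4, nat_lit 3, nat_lit 2], (nat_lit 858234661), (nat_lit 0)) ::
  ([nat_lit 1, nat_lit 2, nat_lit 3, nat_lit 2, nat_lit 1, nat_lit 0, nat_lit 4, nat_lit 3, nat_lit 7, nat_lit 4, nat_lit 5], (nat_lit 858653889), (nat_lit 0)) ::
  ([nat_lit 1, nat_lit 2, nat_lit 3, nat_lit 2, nat_lit 1, nat_lit 4, nat_lit 3, nat_lit 7, nat_lit 4, nat_lit 7, nat_lit 5], (nat_lit 859865853), (nat_lit 0)) ::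
  ([nat_lit 1, nat_lit 0, nat_lit 2, nat_lit 3, nat_lit 2, nat_lit 1, nat_lit 0, nat_lit 4, nat_lit 3, nat_lit 2, nat_lit 1, nat_lit 7, nat_lit 4, nat_lit 6], (nat_lit 861754752), (nat_lit 0)) ::
  ([nat_lit 1, nat_lit 2, nat_lit 3, nat_lit 2, nat_lit 1, nat_lit 0, nat_lit 4, nat_lit 3, nat_lit 2, nat_lit 1, nat_lit 8, nat_lit 4, nat_lit 7, nat_lit 6], (nat_lit 861995593), (nat_lit 0)) ::
  ([nat_lit 1, nat_lit 0, nat_lit 2, nat_lit 3, nat_lit 2, nat_lit 1, nat_lit 0, nat_lit 4, nat_lit 3, nat_lit 2, nat_lit 8, nat_lit 4, nat_lit 7], (nat_lit 863875491), (nat_lit 0)) ::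
  ([nat_lit 1, nat_lit 2, nat_lit 3, nat_lit 2, nat_lit 1, nat_lit 0, nat_lit 4, nat_lit 3, nat_lit 2, nat_lit 1, nat_lit 3, nat_lit 8, nat_lit 5], (nat_lit 864063023), (nat_lit 0)) ::
  ([nat_lit 1, nat_lit 0, nat_lit 2, nat_lit 3, nat_lit 2, nat_lit 1, nat_lit 0, nat_lit 4, nat_lit 3, nat_lit 2], (nat_lit 865379536), (nat_lit 0)) ::
  ([nat_lit 1, nat_lit 2, nat_lit 3, nat_lit 2, nat_lit 1, nat_lit 4, nat_lit 3, nat_lit 2, nat_lit 7, nat_lit 4, nat_lit 7, nat_lit 6], (nat_lit 867267876), (nat_lit 0)) ::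
  ([nat_lit 1, nat_lit 0, nat_lit 2, nat_lit 3, nat_lit 2, nat_lit 4, nat_lit 3, nat_lit 7, nat_lit 4, nat_lit 8], (nat_lit 870608275), (nat_lit 0)) ::
  ([nat_lit 1, nat_lit 2, nat_lit 3, nat_lit 2, nat_lit 4, nat_lit 3, nat_lit 2, nat_lit 1, nat_lit 7, nat_lit 4], (nat_lit 871260357), (nat_lit 0)) ::
  ([nat_lit 1, nat_lit 0, nat_lit 2, nat_lit 3, nat_lit 2, nat_lit 1, nat_lit 0, nat_lit 4, nat_lit 3, nat_lit 8, nat_lit 4, nat_lit 6, nat_lit 7], (nat_lit 872774270), (nat_lit 0)) ::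
  ([nat_lit 1, nat_lit 2, nat_lit 3, nat_lit 2, nat_lit 1, nat_lit 0, nat_lit 4, nat_lit 3, nat_lit 2, nat_lit 1, nat_lit 0, nat_lit 8, nat_lit 4, nat_lit 7], (nat_lit 873162706), (nat_lit 0)) ::
  ([nat_lit 1, nat_lit 0, nat_lit 2, nat_lit 1, nat_lit 3, nat_lit 4, nat_lit 7], (nat_lit 875218678), (nat_lit 0)) ::
  ([nat_lit 1, nat_lit 2, nat_lit 3, nat_lit 2, nat_lit 1, nat_lit 0, nat_lit 4, nat_lit 3, nat_lit 2, nat_lit 1, nat_lit 0, nat_lit 8, nat_lit 6], (nat_lit 876567931), (nat_lit 0)) ::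
  ([nat_lit 1, nat_lit 0, nat_lit 2, nat_lit 3, nat_lit 2, nat_lit 4, nat_lit 3, nat_lit 2, nat_lit 8, nat_lit 4, nat_lit 3, nat_lit 2, nat_lit 1, nat_lit 6, nat_lit 8], (nat_lit 876777941), (nat_lit 0)) ::
  ([nat_lit 1, nat_lit 2, nat_lit 3, nat_lit 2, nat_lit 1, nat_lit 4, nat_lit 3, nat_lit 7, nat_lit 4, nat_lit 6, nat_lit 7], (nat_lit 877171167), (nat_lit 0)) ::
  ([nat_lit 1, nat_lit 2, nat_lit 3, nat_lit 4, nat_lit 8], (nat_lit 879618196), (nat_lit 0)) ::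
  ([nat_lit 1, nat_lit 2, nat_lit 3, nat_lit 2, nat_lit 1, nat_lit 0, nat_lit 4, nat_lit 8], (nat_lit 880604005), (nat_lit 0)) ::
  ([nat_lit 1, nat_lit 2, nat_lit 3, nat_lit 2, nat_lit 1, nat_lit 0, nat_lit 4, nat_lit 3, nat_lit 2, nat_lit 1, nat_lit 8], (nat_lit 881768115), (nat_lit 0)) ::
  ([nat_lit 1, nat_lit 0, nat_lit 2, nat_lit 3, nat_lit 2, nat_lit 1, nat_lit 4, nat_lit 3, nat_lit 2, nat_lit 7, nat_lit 4, nat_lit 8], (nat_lit 883352494), (nat_lit 0)) ::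
  ([nat_lit 1, nat_lit 2, nat_lit 3, nat_lit 2, nat_lit 4, nat_lit 3, nat_lit 2, nat_lit 8, nat_lit 4, nat_lit 6], (nat_lit 885248812), (nat_lit 0)) ::
  ([nat_lit 1, nat_lit 2, nat_lit 3, nat_lit 2, nat_lit 4, nat_lit 3, nat_lit 2, nat_lit 1, nat_lit 0, nat_lit 7, nat_lit 4, nat_lit 8], (nat_lit 885361255), (nat_lit 0)) ::
  ([nat_lit 1, nat_lit 0, nat_lit 2, nat_lit 3, nat_lit 2, nat_lit 4, nat_lit 3, nat_lit 2, nat_lit 7, nat_lit 4, nat_lit 7, nat_lit 5], (nat_lit 885868363), (nat_lit 0)) ::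
  ([nat_lit 1, nat_lit 2, nat_lit 3, nat_lit 2, nat_lit 1, nat_lit 4, nat_lit 3, nat_lit 2, nat_lit 1, nat_lit 8, nat_lit 4, nat_lit 5], (nat_lit 886434205), (nat_lit 0)) ::
  ([nat_lit 1, nat_lit 0, nat_lit 2, nat_lit 3, nat_lit 2, nat_lit 1, nat_lit 0, nat_lit 4, nat_lit 3, nat_lit 2, nat_lit 1, nat_lit 8, nat_lit 4, nat_lit 6], (nat_lit 886954282), (nat_lit 0)) ::
  ([nat_lit 1, nat_lit 2, nat_lit 3, nat_lit 2, nat_lit 1, nat_lit 0, nat_lit 4, nat_lit 3, nat_lit 2, nat_lit 1, nat_lit 0, nat_lit 8, nat_lit 4, nat_lit 6], (nat_lit 887387839), (nat_lit 0)) ::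
  ([nat_lit 1, nat_lit 2, nat_lit 3, nat_lit 2, nat_lit 4, nat_lit 3, nat_lit 2, nat_lit 1, nat_lit 7, nat_lit 4, nat_lit 3, nat_lit 2, nat_lit 7, nat_lit 5], (nat_lit 887875798), (nat_lit 0)) ::
  ([nat_lit 1, nat_lit 0, nat_lit 2, nat_lit 3, nat_lit 2, nat_lit 1, nat_lit 4, nat_lit 3, nat_lit 2, nat_lit 1, nat_lit 8, nat_lit 5], (nat_lit 888063035), (nat_lit 0)) ::
  ([nat_lit 1, nat_lit 2, nat_lit 3, nat_lit 2, nat_lit 1, nat_lit 0, nat_lit 4, nat_lit 7, nat_lit 4], (nat_lit 889191549), (nat_lit 0)) ::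
  ([nat_lit 1, nat_lit 0, nat_lit 2, nat_lit 3, nat_lit 2, nat_lit 4, nat_lit 3, nat_lit 8, nat_lit 4, nat_lit 7], (nat_lit 889610528), (nat_lit 0)) ::
  ([nat_lit 1, nat_lit 2, nat_lit 3, nat_lit 2, nat_lit 4, nat_lit 3, nat_lit 7, nat_lit 4, nat_lit 7, nat_lit 6], (nat_lit 891469611), (nat_lit 0)) ::
  ([nat_lit 1, nat_lit 2, nat_lit 3, nat_lit 2, nat_lit 4, nat_lit 3, nat_lit 2, nat_lit 1, nat_lit 7, nat_lit 4, nat_lit 3, nat_lit 2, nat_lit 8], (nat_lit 895144681), (nat_lit 0)) ::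
  ([nat_lit 1, nat_lit 2, nat_lit 3, nat_lit 2, nat_lit 1, nat_lit 4, nat_lit 3, nat_lit 2, nat_lit 7, nat_lit 4, nat_lit 6], (nat_lit 896146912), (nat_lit 0)) ::
  ([nat_lit 1, nat_lit 0, nat_lit 2, nat_lit 3, nat_lit 2, nat_lit 4, nat_lit 3, nat_lit 2, nat_lit 1, nat_lit 8, nat_lit 4], (nat_lit 902736191), (nat_lit 0)) ::
  ([nat_lit 1, nat_lit 0, nat_lit 2, nat_lit 1, nat_lit 3, nat_lit 2, nat_lit 1, nat_lit 3], (nat_lit 905592129), (nat_lit 0)) ::
  ([nat_lit 1, nat_lit 2, nat_lit 3, nat_lit 2, nat_lit 4, nat_lit 3, nat_lit 2, nat_lit 8, nat_lit 4, nat_lit 8, nat_lit 4, nat_lit 3, nat_lit 2, nat_lit 1], (nat_lit 906169084), (nat_lit 0)) ::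
  ([nat_lit 1, nat_lit 0, nat_lit 2, nat_lit 3, nat_lit 2, nat_lit 1, nat_lit 0], (nat_lit 906204235), (nat_lit 0)) ::
  ([nat_lit 1, nat_lit 0, nat_lit 2, nat_lit 1, nat_lit 3, nat_lit 2, nat_lit 1, nat_lit 4, nat_lit 8, nat_lit 5], (nat_lit 906667547), (nat_lit 0)) ::
  ([nat_lit 1, nat_lit 2, nat_lit 3, nat_lit 2, nat_lit 1, nat_lit 4, nat_lit 3, nat_lit 8, nat_lit 4, nat_lit 8, nat_lit 6], (nat_lit 907067254), (nat_lit 0)) ::
  ([nat_lit 1, nat_lit 2, nat_lit 3, nat_lit 2, nat_lit 4, nat_lit 3, nat_lit 2, nat_lit 1, nat_lit 8, nat_lit 5], (nat_lit 909406050), (nat_lit 0)) ::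
  ([nat_lit 1, nat_lit 2, nat_lit 3, nat_lit 2, nat_lit 1, nat_lit 0, nat_lit 4, nat_lit 3, nat_lit 2, nat_lit 7, nat_lit 4], (nat_lit 910249384), (nat_lit 0)) ::
  ([nat_lit 1, nat_lit 2, nat_lit 3, nat_lit 2, nat_lit 4, nat_lit 3, nat_lit 2, nat_lit 1, nat_lit 8, nat_lit 4], (nat_lit 910348711), (nat_lit 0)) ::
  ([nat_lit 1, nat_lit 2, nat_lit 3, nat_lit 2, nat_lit 1, nat_lit 4, nat_lit 3, nat_lit 2, nat_lit 1, nat_lit 8, nat_lit 4, nat_lit 7], (nat_lit 911359985), (nat_lit 0)) ::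
  ([nat_lit 1, nat_lit 0, nat_lit 2, nat_lit 3, nat_lit 2, nat_lit 1, nat_lit 0, nat_lit 4, nat_lit 3, nat_lit 8, nat_lit 4, nat_lit 7], (nat_lit 914201755), (nat_lit 0)) ::
  clD750
noncomputable def clD650 : List (List ℕ × ℕ × ℕ) :=
  ([nat_lit 1, nat_lit 2, nat_lit 3, nat_lit 2, nat_lit 4, nat_lit 3, nat_lit 2, nat_lit 8, nat_lit 4, nat_lit 8, nat_lit 5], (nat_lit 793656602), (nat_lit 0)) ::
  ([nat_lit 1, nat_lit 0, nat_lit 2, nat_lit 3, nat_lit 2, nat_lit 4, nat_lit 7, nat_lit 4], (nat_lit 793686787), (nat_lit 0)) ::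
  ([nat_lit 1, nat_lit 2, nat_lit 3, nat_lit 2, nat_lit 1, nat_lit 4, nat_lit 3, nat_lit 2, nat_lit 1, nat_lit 7, nat_lit 4, nat_lit 8, nat_lit 5], (nat_lit 796332669), (nat_lit 0)) ::
  ([nat_lit 1, nat_lit 2, nat_lit 3, nat_lit 2, nat_lit 4, nat_lit 3, nat_lit 2, nat_lit 1, nat_lit 7, nat_lit 4, nat_lit 8], (nat_lit 797164241), (nat_lit 0)) ::
  ([nat_lit 1, nat_lit 2, nat_lit 3, nat_lit 2, nat_lit 4, nat_lit 7], (nat_lit 798856847), (nat_lit 0)) ::
  ([nat_lit 1, nat_lit 2, nat_lit 3, nat_lit 2, nat_lit 4, nat_lit 3, nat_lit 2, nat_lit 7], (nat_lit 799685002), (nat_lit 0)) ::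
  ([nat_lit 1, nat_lit 0, nat_lit 2, nat_lit 3, nat_lit 2, nat_lit 4, nat_lit 3, nat_lit 2, nat_lit 7, nat_lit 4, nat_lit 3, nat_lit 2, nat_lit 5], (nat_lit 804400572), (nat_lit 0)) ::
  ([nat_lit 1, nat_lit 2, nat_lit 3, nat_lit 2, nat_lit 4], (nat_lit 805604521), (nat_lit 0)) ::
  ([nat_lit 1, nat_lit 2, nat_lit 3, nat_lit 2, nat_lit 1, nat_lit 4, nat_lit 3, nat_lit 8, nat_lit 5], (nat_lit 805854290), (nat_lit 0)) ::
  ([nat_lit 1, nat_lit 2, nat_lit 3, nat_lit 2, nat_lit 1, nat_lit 4, nat_lit 3, nat_lit 2, nat_lit 7, nat_lit 6], (nat_lit 806283277), (nat_lit 0)) ::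
  ([nat_lit 1, nat_lit 0, nat_lit 2, nat_lit 3, nat_lit 2, nat_lit 4, nat_lit 3, nat_lit 2, nat_lit 1, nat_lit 8, nat_lit 4, nat_lit 3, nat_lit 8], (nat_lit 806947667), (nat_lit 0)) ::
  ([nat_lit 1, nat_lit 0, nat_lit 2, nat_lit 3, nat_lit 2, nat_lit 1, nat_lit 4, nat_lit 3, nat_lit 7, nat_lit 4, nat_lit 7], (nat_lit 807006430), (nat_lit 0)) ::
  ([nat_lit 1, nat_lit 0, nat_lit 2, nat_lit 3, nat_lit 2, nat_lit 1, nat_lit 4, nat_lit 3, nat_lit 2, nat_lit 1, nat_lit 7, nat_lit 4], (nat_lit 809385491), (nat_lit 0)) ::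
  ([nat_lit 1, nat_lit 0, nat_lit 2, nat_lit 3, nat_lit 2, nat_lit 4, nat_lit 3, nat_lit 2, nat_lit 8], (nat_lit 809585484), (nat_lit 0)) ::
  ([nat_lit 1, nat_lit 0, nat_lit 2, nat_lit 3, nat_lit 2, nat_lit 1, nat_lit 4, nat_lit 3, nat_lit 2, nat_lit 7, nat_lit 4, nat_lit 6], (nat_lit 809728913), (nat_lit 0)) ::
  ([nat_lit 1, nat_lit 0, nat_lit 2, nat_lit 1, nat_lit 3, nat_lit 2, nat_lit 1, nat_lit 4, nat_lit 7, nat_lit 6], (nat_lit 809782622), (nat_lit 0)) ::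
  ([nat_lit 1, nat_lit 0, nat_lit 2, nat_lit 1, nat_lit 3, nat_lit 2, nat_lit 1, nat_lit 0, nat_lit 4, nat_lit 7], (nat_lit 810300855), (nat_lit 0)) ::
  ([nat_lit 1, nat_lit 2, nat_lit 3, nat_lit 2, nat_lit 1, nat_lit 4, nat_lit 3, nat_lit 2, nat_lit 1, nat_lit 8, nat_lit 4, nat_lit 8, nat_lit 4], (nat_lit 811022512), (nat_lit 0)) ::
  ([nat_lit 1, nat_lit 0, nat_lit 2, nat_lit 3, nat_lit 2, nat_lit 4, nat_lit 3, nat_lit 7], (nat_lit 811112568), (nat_lit 0)) ::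
  ([nat_lit 1, nat_lit 2, nat_lit 3, nat_lit 2, nat_lit 1, nat_lit 4, nat_lit 3, nat_lit 8, nat_lit 4, nat_lit 8], (nat_lit 816980426), (nat_lit 0)) ::
  ([nat_lit 1, nat_lit 2, nat_lit 3, nat_lit 2, nat_lit 1, nat_lit 0, nat_lit 4, nat_lit 3, nat_lit 8, nat_lit 4, nat_lit 6, nat_lit 7], (nat_lit 818056225), (nat_lit 0)) ::
  ([nat_lit 1, nat_lit 0, nat_lit 2, nat_lit 3, nat_lit 2, nat_lit 4, nat_lit 3, nat_lit 2, nat_lit 7, nat_lit 4, nat_lit 6], (nat_lit 818925677), (nat_lit 0)) ::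
  ([nat_lit 1, nat_lit 0, nat_lit 2, nat_lit 3, nat_lit 2, nat_lit 1, nat_lit 0, nat_lit 4, nat_lit 3, nat_lit 2, nat_lit 8], (nat_lit 820084584), (nat_lit 0)) ::
  ([nat_lit 1, nat_lit 0, nat_lit 2, nat_lit 3, nat_lit 2, nat_lit 1, nat_lit 0, nat_lit 4, nat_lit 3, nat_lit 2, nat_lit 1, nat_lit 7], (nat_lit 820654021), (nat_lit 0)) ::
  ([nat_lit 1, nat_lit 2, nat_lit 3, nat_lit 2, nat_lit 1, nat_lit 0, nat_lit 4, nat_lit 3, nat_lit 2, nat_lit 1, nat_lit 8, nat_lit 4, nat_lit 8, nat_lit 6], (nat_lit 823937643), (nat_lit 0)) ::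
  ([nat_lit 1, nat_lit 2, nat_lit 3, nat_lit 2, nat_lit 1, nat_lit 0, nat_lit 4, nat_lit 3, nat_lit 2, nat_lit 1, nat_lit 7], (nat_lit 825679748), (nat_lit 0)) ::
  ([nat_lit 1, nat_lit 2, nat_lit 3, nat_lit 2, nat_lit 4, nat_lit 3, nat_lit 2, nat_lit 1, nat_lit 7, nat_lit 4, nat_lit 3, nat_lit 8], (nat_lit 825827396), (nat_lit 0)) ::
  ([nat_lit 1, nat_lit 0, nat_lit 2, nat_lit 3, nat_lit 2, nat_lit 1, nat_lit 4, nat_lit 3, nat_lit 2, nat_lit 1, nat_lit 0, nat_lit 8, nat_lit 6], (nat_lit 827583289), (nat_lit 0)) ::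
  ([nat_lit 1, nat_lit 2, nat_lit 3, nat_lit 2, nat_lit 4, nat_lit 3, nat_lit 2, nat_lit 1, nat_lit 8, nat_lit 4, nat_lit 8, nat_lit 4], (nat_lit 827606991), (nat_lit 0)) ::
  ([nat_lit 1, nat_lit 0, nat_lit 2, nat_lit 3, nat_lit 2, nat_lit 1, nat_lit 4, nat_lit 3, nat_lit 2, nat_lit 8, nat_lit 4, nat_lit 3, nat_lit 8], (nat_lit 827986716), (nat_lit 0)) ::
  ([nat_lit 1, nat_lit 2, nat_lit 3, nat_lit 2, nat_lit 4, nat_lit 3, nat_lit 2], (nat_lit 828397644), (nat_lit 0)) ::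
  ([nat_lit 1, nat_lit 2, nat_lit 3, nat_lit 2, nat_lit 4, nat_lit 3, nat_lit 2, nat_lit 1, nat_lit 0, nat_lit 7, nat_lit 4], (nat_lit 831618067), (nat_lit 0)) ::
  ([nat_lit 1, nat_lit 2, nat_lit 3, nat_lit 2, nat_lit 1, nat_lit 0, nat_lit 4, nat_lit 3, nat_lit 2, nat_lit 1, nat_lit 7, nat_lit 4], (nat_lit 833868721), (nat_lit 0)) ::
  ([nat_lit 1, nat_lit 0, nat_lit 2, nat_lit 3, nat_lit 2, nat_lit 1, nat_lit 4, nat_lit 3, nat_lit 2], (nat_lit 834013977), (nat_lit 0)) ::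
  ([nat_lit 1, nat_lit 2, nat_lit 3, nat_lit 2, nat_lit 1, nat_lit 4, nat_lit 3, nat_lit 2, nat_lit 1, nat_lit 0, nat_lit 7, nat_lit 4, nat_lit 8, nat_lit 5], (nat_lit 836151865), (nat_lit 0)) ::
  ([nat_lit 1, nat_lit 2, nat_lit 3, nat_lit 2, nat_lit 4, nat_lit 3, nat_lit 2, nat_lit 7, nat_lit 4, nat_lit 3, nat_lit 2, nat_lit 7], (nat_lit 836392803), (nat_lit 0)) ::
  ([nat_lit 1, nat_lit 0, nat_lit 2, nat_lit 1, nat_lit 3, nat_lit 2, nat_lit 1, nat_lit 0, nat_lit 4, nat_lit 7, nat_lit 4], (nat_lit 836395872), (nat_lit 0)) ::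
  ([nat_lit 1, nat_lit 2, nat_lit 3, nat_lit 2, nat_lit 1, nat_lit 4, nat_lit 3, nat_lit 2, nat_lit 8, nat_lit 4, nat_lit 8, nat_lit 8], (nat_lit 837447510), (nat_lit 0)) ::
  ([nat_lit 1, nat_lit 2, nat_lit 3, nat_lit 2, nat_lit 1, nat_lit 0, nat_lit 4, nat_lit 3, nat_lit 8, nat_lit 4, nat_lit 7, nat_lit 7], (nat_lit 838096907), (nat_lit 0)) ::
  ([nat_lit 1, nat_lit 0, nat_lit 2, nat_lit 3, nat_lit 4, nat_lit 7, nat_lit 5], (nat_lit 839169213), (nat_lit 0)) ::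
  ([nat_lit 1, nat_lit 0, nat_lit 2, nat_lit 3, nat_lit 2, nat_lit 1, nat_lit 4, nat_lit 3, nat_lit 2, nat_lit 8, nat_lit 4], (nat_lit 839283699), (nat_lit 0)) ::
  ([nat_lit 1, nat_lit 0, nat_lit 2, nat_lit 3, nat_lit 2, nat_lit 1, nat_lit 0, nat_lit 4, nat_lit 3, nat_lit 2, nat_lit 7, nat_lit 4, nat_lit 3, nat_lit 6], (nat_lit 840627119), (nat_lit 0)) ::
  ([nat_lit 1, nat_lit 2, nat_lit 3, nat_lit 2, nat_lit 1, nat_lit 0, nat_lit 4, nat_lit 3, nat_lit 2, nat_lit 8, nat_lit 4, nat_lit 5, nat_lit 7], (nat_lit 846011821), (nat_lit 0)) ::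
  ([nat_lit 1, nat_lit 0, nat_lit 2, nat_lit 1, nat_lit 3, nat_lit 2, nat_lit 1, nat_lit 0, nat_lit 4, nat_lit 8, nat_lit 5], (nat_lit 846758215), (nat_lit 0)) ::
  ([nat_lit 1, nat_lit 2, nat_lit 3, nat_lit 2, nat_lit 1, nat_lit 4, nat_lit 3, nat_lit 7, nat_lit 4, nat_lit 7, nat_lit 4], (nat_lit 846946608), (nat_lit 0)) ::
  ([nat_lit 1, nat_lit 2, nat_lit 3, nat_lit 2, nat_lit 4, nat_lit 3, nat_lit 2, nat_lit 1, nat_lit 7, nat_lit 4, nat_lit 8, nat_lit 8], (nat_lit 847735381), (nat_lit 0)) ::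
  ([nat_lit 1, nat_lit 2, nat_lit 3, nat_lit 2, nat_lit 1, nat_lit 4, nat_lit 3, nat_lit 2, nat_lit 1, nat_lit 8, nat_lit 4, nat_lit 6, nat_lit 7], (nat_lit 848313952), (nat_lit 0)) ::
  ([nat_lit 1, nat_lit 0, nat_lit 2, nat_lit 3, nat_lit 2, nat_lit 4, nat_lit 3, nat_lit 2, nat_lit 8, nat_lit 4, nat_lit 3, nat_lit 2, nat_lit 1, nat_lit 0], (nat_lit 851205464), (nat_lit 0)) ::
  ([nat_lit 1, nat_lit 2, nat_lit 3, nat_lit 2, nat_lit 4, nat_lit 3, nat_lit 2, nat_lit 1, nat_lit 7, nat_lit 4, nat_lit 6, nat_lit 8], (nat_lit 851276762), (nat_lit 0)) ::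
  ([nat_lit 1, nat_lit 2, nat_lit 3, nat_lit 2, nat_lit 1, nat_lit 4, nat_lit 3, nat_lit 2, nat_lit 1, nat_lit 0, nat_lit 3, nat_lit 7, nat_lit 5], (nat_lit 851290351), (nat_lit 0)) ::
  clD700
noncomputable def clD600 : List (List ℕ × ℕ × ℕ) :=
  ([nat_lit 1, nat_lit 0, nat_lit 2, nat_lit 3, nat_lit 2, nat_lit 1, nat_lit 0, nat_lit 4, nat_lit 3, nat_lit 2, nat_lit 8, nat_lit 4], (nat_lit 711149424), (nat_lit 0)) ::
  ([nat_lit 1, nat_lit 2, nat_lit 3, nat_lit 2, nat_lit 1, nat_lit 0, nat_lit 4, nat_lit 8, nat_lit 5], (nat_lit 711531574), (nat_lit 0)) ::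
  ([nat_lit 1, nat_lit 2, nat_lit 3, nat_lit 2, nat_lit 4, nat_lit 3, nat_lit 2, nat_lit 1, nat_lit 0, nat_lit 7], (nat_lit 712049898), (nat_lit 0)) ::
  ([nat_lit 1, nat_lit 2, nat_lit 3, nat_lit 2, nat_lit 1, nat_lit 4, nat_lit 3, nat_lit 8, nat_lit 4, nat_lit 6, nat_lit 7], (nat_lit 712488380), (nat_lit 0)) ::
  ([nat_lit 1, nat_lit 0, nat_lit 2, nat_lit 1, nat_lit 3, nat_lit 2, nat_lit 3], (nat_lit 713657896), (nat_lit 17199)) ::
  ([nat_lit 1, nat_lit 2, nat_lit 3, nat_lit 2, nat_lit 4, nat_lit 3, nat_lit 2, nat_lit 1, nat_lit 7, nat_lit 4, nat_lit 3, nat_lit 2, nat_lit 3, nat_lit 6], (nat_lit 719890587), (nat_lit 0)) ::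
  ([nat_lit 1, nat_lit 0, nat_lit 2, nat_lit 3, nat_lit 2, nat_lit 4, nat_lit 3, nat_lit 2, nat_lit 1, nat_lit 8, nat_lit 4, nat_lit 3, nat_lit 2, nat_lit 1], (nat_lit 724743294), (nat_lit 0)) ::
  ([nat_lit 1, nat_lit 0, nat_lit 2, nat_lit 3, nat_lit 2, nat_lit 1, nat_lit 4, nat_lit 3, nat_lit 2, nat_lit 8, nat_lit 4, nat_lit 8], (nat_lit 724957667), (nat_lit 0)) ::
  ([nat_lit 1, nat_lit 2, nat_lit 3, nat_lit 2, nat_lit 1, nat_lit 4, nat_lit 3, nat_lit 2, nat_lit 1, nat_lit 0, nat_lit 7, nat_lit 6], (nat_lit 726552339), (nat_lit 0)) ::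
  ([nat_lit 1, nat_lit 2, nat_lit 3, nat_lit 2, nat_lit 4, nat_lit 3, nat_lit 2, nat_lit 7, nat_lit 4, nat_lit 5], (nat_lit 727650694), (nat_lit 0)) ::
  ([nat_lit 1, nat_lit 0, nat_lit 2, nat_lit 3, nat_lit 2, nat_lit 4, nat_lit 3, nat_lit 2, nat_lit 1, nat_lit 0, nat_lit 8], (nat_lit 730694049), (nat_lit 0)) ::
  ([nat_lit 1, nat_lit 2, nat_lit 3, nat_lit 2, nat_lit 1, nat_lit 0, nat_lit 4, nat_lit 3, nat_lit 2, nat_lit 7, nat_lit 4, nat_lit 7], (nat_lit 731743512), (nat_lit 0)) ::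
  ([nat_lit 1, nat_lit 0, nat_lit 2, nat_lit 3, nat_lit 2, nat_lit 4], (nat_lit 732460589), (nat_lit 0)) ::
  ([nat_lit 1, nat_lit 0, nat_lit 2, nat_lit 3, nat_lit 2, nat_lit 4, nat_lit 3, nat_lit 2, nat_lit 1, nat_lit 0, nat_lit 8, nat_lit 4, nat_lit 6], (nat_lit 734091181), (nat_lit 0)) ::
  ([nat_lit 1, nat_lit 0, nat_lit 2, nat_lit 3, nat_lit 2, nat_lit 1, nat_lit 4, nat_lit 3, nat_lit 2, nat_lit 8, nat_lit 4, nat_lit 6, nat_lit 7], (nat_lit 735895139), (nat_lit 0)) ::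
  ([nat_lit 1, nat_lit 2, nat_lit 3, nat_lit 2, nat_lit 4, nat_lit 3, nat_lit 2, nat_lit 7, nat_lit 4, nat_lit 8], (nat_lit 736967331), (nat_lit 0)) ::
  ([nat_lit 1, nat_lit 2, nat_lit 3, nat_lit 2, nat_lit 1, nat_lit 4, nat_lit 3, nat_lit 7, nat_lit 4, nat_lit 8, nat_lit 8], (nat_lit 737170544), (nat_lit 0)) ::
  ([nat_lit 1, nat_lit 2, nat_lit 3, nat_lit 2, nat_lit 4, nat_lit 3, nat_lit 2, nat_lit 8, nat_lit 4, nat_lit 8, nat_lit 6], (nat_lit 738754955), (nat_lit 0)) ::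
  ([nat_lit 1, nat_lit 0, nat_lit 2, nat_lit 3, nat_lit 2, nat_lit 1, nat_lit 0, nat_lit 4, nat_lit 3], (nat_lit 738892227), (nat_lit 0)) ::
  ([nat_lit 1, nat_lit 0, nat_lit 2, nat_lit 3, nat_lit 2, nat_lit 1, nat_lit 0, nat_lit 4, nat_lit 3, nat_lit 2, nat_lit 8, nat_lit 4, nat_lit 5], (nat_lit 744116988), (nat_lit 0)) ::
  ([nat_lit 1, nat_lit 0, nat_lit 2, nat_lit 3, nat_lit 2, nat_lit 1, nat_lit 4, nat_lit 3, nat_lit 2, nat_lit 7, nat_lit 4, nat_lit 5], (nat_lit 744359976), (nat_lit 0)) ::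
  ([nat_lit 1, nat_lit 2, nat_lit 3, nat_lit 2, nat_lit 1, nat_lit 0, nat_lit 4, nat_lit 3, nat_lit 2, nat_lit 1, nat_lit 8, nat_lit 5], (nat_lit 745781436), (nat_lit 0)) ::
  ([nat_lit 1, nat_lit 0, nat_lit 2, nat_lit 3, nat_lit 2, nat_lit 4, nat_lit 3, nat_lit 2, nat_lit 8, nat_lit 4, nat_lit 3, nat_lit 6, nat_lit 8], (nat_lit 746222764), (nat_lit 0)) ::
  ([nat_lit 1, nat_lit 2, nat_lit 3, nat_lit 2, nat_lit 1, nat_lit 4, nat_lit 3, nat_lit 2, nat_lit 1, nat_lit 3, nat_lit 8, nat_lit 5], (nat_lit 748392031), (nat_lit 0)) ::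
  ([nat_lit 1, nat_lit 2, nat_lit 3, nat_lit 2, nat_lit 1, nat_lit 4, nat_lit 3, nat_lit 2, nat_lit 1, nat_lit 0, nat_lit 8, nat_lit 4, nat_lit 6], (nat_lit 748484768), (nat_lit 0)) ::
  ([nat_lit 1, nat_lit 2, nat_lit 3, nat_lit 2, nat_lit 1, nat_lit 4, nat_lit 3, nat_lit 2, nat_lit 1, nat_lit 3, nat_lit 2, nat_lit 7, nat_lit 5], (nat_lit 749510219), (nat_lit 0)) ::
  ([nat_lit 1, nat_lit 0, nat_lit 2, nat_lit 3, nat_lit 2, nat_lit 1, nat_lit 4, nat_lit 3, nat_lit 7, nat_lit 4, nat_lit 5], (nat_lit 750450738), (nat_lit 0)) ::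
  ([nat_lit 1, nat_lit 0, nat_lit 2, nat_lit 3, nat_lit 2, nat_lit 1, nat_lit 4, nat_lit 3, nat_lit 7, nat_lit 4, nat_lit 3, nat_lit 7], (nat_lit 751218663), (nat_lit 0)) ::
  ([nat_lit 1, nat_lit 0, nat_lit 2, nat_lit 3, nat_lit 2, nat_lit 4, nat_lit 3, nat_lit 2, nat_lit 1, nat_lit 7, nat_lit 4], (nat_lit 753756951), (nat_lit 0)) ::
  ([nat_lit 1, nat_lit 2, nat_lit 3, nat_lit 2, nat_lit 1, nat_lit 0, nat_lit 4, nat_lit 3, nat_lit 2, nat_lit 8, nat_lit 4, nat_lit 8, nat_lit 5], (nat_lit 756358228), (nat_lit 0)) ::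
  ([nat_lit 1, nat_lit 2, nat_lit 3, nat_lit 2, nat_lit 4, nat_lit 3, nat_lit 2, nat_lit 8, nat_lit 4, nat_lit 7, nat_lit 7], (nat_lit 760003766), (nat_lit 0)) ::
  ([nat_lit 1, nat_lit 0, nat_lit 2, nat_lit 3, nat_lit 2, nat_lit 1, nat_lit 4, nat_lit 7, nat_lit 6], (nat_lit 761110591), (nat_lit 0)) ::
  ([nat_lit 1, nat_lit 0, nat_lit 2, nat_lit 3, nat_lit 2, nat_lit 1, nat_lit 0, nat_lit 4, nat_lit 7, nat_lit 6], (nat_lit 765246514), (nat_lit 0)) ::
  ([nat_lit 1, nat_lit 2, nat_lit 3, nat_lit 2, nat_lit 1, nat_lit 0, nat_lit 4, nat_lit 3, nat_lit 2, nat_lit 1, nat_lit 3], (nat_lit 765389039), (nat_lit 0)) ::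
  ([nat_lit 1, nat_lit 0, nat_lit 2, nat_lit 1, nat_lit 3, nat_lit 2, nat_lit 4, nat_lit 7, nat_lit 6], (nat_lit 766147283), (nat_lit 0)) ::
  ([nat_lit 1, nat_lit 0, nat_lit 2, nat_lit 3, nat_lit 2, nat_lit 1, nat_lit 0, nat_lit 4, nat_lit 3, nat_lit 7, nat_lit 4, nat_lit 5], (nat_lit 770423067), (nat_lit 0)) ::
  ([nat_lit 1, nat_lit 2, nat_lit 3, nat_lit 2, nat_lit 1, nat_lit 0, nat_lit 4, nat_lit 3, nat_lit 8, nat_lit 4, nat_lit 8, nat_lit 4], (nat_lit 771354225), (nat_lit 0)) ::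
  ([nat_lit 1, nat_lit 0, nat_lit 2, nat_lit 3, nat_lit 2, nat_lit 1, nat_lit 4, nat_lit 3, nat_lit 2, nat_lit 1, nat_lit 0, nat_lit 8, nat_lit 4, nat_lit 3], (nat_lit 773194149), (nat_lit 0)) ::
  ([nat_lit 1, nat_lit 0, nat_lit 2, nat_lit 3, nat_lit 2, nat_lit 1, nat_lit 0, nat_lit 4, nat_lit 3, nat_lit 2, nat_lit 8, nat_lit 4, nat_lit 6], (nat_lit 773302778), (nat_lit 0)) ::
  ([nat_lit 1, nat_lit 0, nat_lit 2, nat_lit 3, nat_lit 2, nat_lit 4, nat_lit 3, nat_lit 2, nat_lit 8, nat_lit 4, nat_lit 3, nat_lit 7], (nat_lit 773323954), (nat_lit 0)) ::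
  ([nat_lit 1, nat_lit 2, nat_lit 3, nat_lit 2, nat_lit 1, nat_lit 0, nat_lit 4, nat_lit 3, nat_lit 2, nat_lit 1, nat_lit 8, nat_lit 6], (nat_lit 780549370), (nat_lit 0)) ::
  ([nat_lit 1, nat_lit 2, nat_lit 3, nat_lit 2, nat_lit 1, nat_lit 0, nat_lit 4, nat_lit 3, nat_lit 7, nat_lit 4, nat_lit 3], (nat_lit 780969802), (nat_lit 0)) ::
  ([nat_lit 1, nat_lit 0, nat_lit 2, nat_lit 3, nat_lit 2, nat_lit 4, nat_lit 3, nat_lit 2, nat_lit 1, nat_lit 0, nat_lit 7, nat_lit 4], (nat_lit 781940062), (nat_lit 0)) ::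
  ([nat_lit 1, nat_lit 2, nat_lit 3, nat_lit 2, nat_lit 4, nat_lit 3, nat_lit 2, nat_lit 7, nat_lit 4, nat_lit 3, nat_lit 7, nat_lit 4], (nat_lit 784347280), (nat_lit 0)) ::
  ([nat_lit 1, nat_lit 2, nat_lit 3, nat_lit 2, nat_lit 1, nat_lit 0, nat_lit 4, nat_lit 3, nat_lit 7, nat_lit 4, nat_lit 6, nat_lit 8], (nat_lit 788371742), (nat_lit 0)) ::
  ([nat_lit 1, nat_lit 2, nat_lit 3, nat_lit 2, nat_lit 1, nat_lit 4, nat_lit 3, nat_lit 2, nat_lit 7, nat_lit 4, nat_lit 7, nat_lit 5], (nat_lit 789193964), (nat_lit 0)) ::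
  ([nat_lit 1, nat_lit 2, nat_lit 3, nat_lit 2, nat_lit 4, nat_lit 3, nat_lit 2, nat_lit 7, nat_lit 4, nat_lit 3, nat_lit 2, nat_lit 1], (nat_lit 791185981), (nat_lit 0)) ::
  ([nat_lit 1, nat_lit 2, nat_lit 3, nat_lit 2, nat_lit 4, nat_lit 3, nat_lit 2, nat_lit 1, nat_lit 0, nat_lit 7, nat_lit 4, nat_lit 6], (nat_lit 791736628), (nat_lit 0)) ::
  ([nat_lit 1, nat_lit 0, nat_lit 2, nat_lit 1, nat_lit 3, nat_lit 2, nat_lit 1], (nat_lit 792274442), (nat_lit 0)) ::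
  ([nat_lit 1, nat_lit 2, nat_lit 3, nat_lit 2, nat_lit 4, nat_lit 3, nat_lit 2, nat_lit 7, nat_lit 4, nat_lit 3, nat_lit 2, nat_lit 1, nat_lit 6], (nat_lit 793568471), (nat_lit 0)) ::
  clD650
noncomputable def clD550 : List (List ℕ × ℕ × ℕ) :=
  ([nat_lit 1, nat_lit 2, nat_lit 3, nat_lit 2, nat_lit 4, nat_lit 3, nat_lit 2, nat_lit 1, nat_lit 8, nat_lit 6], (nat_lit 641500131), (nat_lit 0)) ::
  ([nat_lit 1, nat_lit 0, nat_lit 2, nat_lit 3, nat_lit 2, nat_lit 1, nat_lit 0, nat_lit 4, nat_lit 3, nat_lit 8, nat_lit 5], (nat_lit 641626985), (nat_lit 0)) ::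
  ([nat_lit 1, nat_lit 2, nat_lit 3, nat_lit 2, nat_lit 1, nat_lit 0, nat_lit 4, nat_lit 3, nat_lit 8, nat_lit 4], (nat_lit 643277458), (nat_lit 0)) ::
  ([nat_lit 1, nat_lit 0, nat_lit 2, nat_lit 3, nat_lit 2, nat_lit 4, nat_lit 3, nat_lit 2, nat_lit 8, nat_lit 4, nat_lit 5], (nat_lit 644378135), (nat_lit 0)) ::
  ([nat_lit 1, nat_lit 2, nat_lit 3, nat_lit 2, nat_lit 1, nat_lit 4, nat_lit 3, nat_lit 7, nat_lit 4, nat_lit 5], (nat_lit 644697877), (nat_lit 0)) ::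
  ([nat_lit 1, nat_lit 2, nat_lit 3, nat_lit 2, nat_lit 1, nat_lit 0, nat_lit 4, nat_lit 3, nat_lit 2, nat_lit 1, nat_lit 8, nat_lit 4, nat_lit 8], (nat_lit 646335455), (nat_lit 0)) ::
  ([nat_lit 1, nat_lit 2, nat_lit 3, nat_lit 2, nat_lit 4, nat_lit 3, nat_lit 8, nat_lit 4, nat_lit 7, nat_lit 7], (nat_lit 647064298), (nat_lit 0)) ::
  ([nat_lit 1, nat_lit 2, nat_lit 3, nat_lit 2, nat_lit 4, nat_lit 3, nat_lit 2, nat_lit 1, nat_lit 7, nat_lit 4, nat_lit 5, nat_lit 8], (nat_lit 649118337), (nat_lit 0)) ::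
  ([nat_lit 1, nat_lit 2, nat_lit 3, nat_lit 2, nat_lit 1, nat_lit 0, nat_lit 4, nat_lit 3, nat_lit 2, nat_lit 8, nat_lit 4, nat_lit 8, nat_lit 8], (nat_lit 651367680), (nat_lit 0)) ::
  ([nat_lit 1, nat_lit 0, nat_lit 2, nat_lit 3, nat_lit 2, nat_lit 4, nat_lit 7, nat_lit 6], (nat_lit 653322363), (nat_lit 0)) ::
  ([nat_lit 1, nat_lit 0, nat_lit 2, nat_lit 3, nat_lit 2, nat_lit 4, nat_lit 3, nat_lit 7, nat_lit 4, nat_lit 7, nat_lit 5], (nat_lit 655398299), (nat_lit 0)) ::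
  ([nat_lit 1, nat_lit 0, nat_lit 2, nat_lit 3, nat_lit 2, nat_lit 4, nat_lit 3, nat_lit 2, nat_lit 1, nat_lit 8, nat_lit 4, nat_lit 5], (nat_lit 657394992), (nat_lit 0)) ::
  ([nat_lit 1, nat_lit 0, nat_lit 2, nat_lit 3, nat_lit 2, nat_lit 1, nat_lit 0, nat_lit 4, nat_lit 3, nat_lit 8, nat_lit 4, nat_lit 6], (nat_lit 660073888), (nat_lit 0)) ::
  ([nat_lit 1, nat_lit 0, nat_lit 2, nat_lit 3, nat_lit 2, nat_lit 1, nat_lit 0, nat_lit 4, nat_lit 3, nat_lit 7, nat_lit 4, nat_lit 3], (nat_lit 665390159), (nat_lit 0)) ::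
  ([nat_lit 1, nat_lit 0, nat_lit 2, nat_lit 3, nat_lit 2, nat_lit 4, nat_lit 3, nat_lit 2, nat_lit 8, nat_lit 4, nat_lit 3, nat_lit 8], (nat_lit 665954209), (nat_lit 0)) ::
  ([nat_lit 1, nat_lit 0, nat_lit 2, nat_lit 3, nat_lit 2, nat_lit 4, nat_lit 3, nat_lit 8, nat_lit 4], (nat_lit 666536224), (nat_lit 0)) ::
  ([nat_lit 1, nat_lit 0, nat_lit 2, nat_lit 3, nat_lit 2, nat_lit 4, nat_lit 3, nat_lit 2, nat_lit 7, nat_lit 4, nat_lit 5], (nat_lit 669986831), (nat_lit 0)) ::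
  ([nat_lit 1, nat_lit 2, nat_lit 3, nat_lit 2, nat_lit 4, nat_lit 3, nat_lit 2, nat_lit 7, nat_lit 4, nat_lit 3, nat_lit 2, nat_lit 5, nat_lit 7], (nat_lit 670391550), (nat_lit 0)) ::
  ([nat_lit 1, nat_lit 2, nat_lit 3, nat_lit 2, nat_lit 4, nat_lit 3, nat_lit 2, nat_lit 8, nat_lit 4, nat_lit 3, nat_lit 2, nat_lit 6], (nat_lit 671725164), (nat_lit 0)) ::
  ([nat_lit 1, nat_lit 0, nat_lit 2, nat_lit 3, nat_lit 2, nat_lit 1, nat_lit 4, nat_lit 3, nat_lit 2, nat_lit 8, nat_lit 4, nat_lit 3, nat_lit 6], (nat_lit 671865843), (nat_lit 0)) ::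
  ([nat_lit 1, nat_lit 2, nat_lit 3, nat_lit 2, nat_lit 1, nat_lit 4, nat_lit 3, nat_lit 2, nat_lit 1, nat_lit 0, nat_lit 3], (nat_lit 674192825), (nat_lit 0)) ::
  ([nat_lit 1, nat_lit 0, nat_lit 2, nat_lit 1, nat_lit 3, nat_lit 2, nat_lit 4, nat_lit 8, nat_lit 5], (nat_lit 677668618), (nat_lit 0)) ::
  ([nat_lit 1, nat_lit 2, nat_lit 3, nat_lit 2, nat_lit 1, nat_lit 4], (nat_lit 678949148), (nat_lit 0)) ::
  ([nat_lit 1, nat_lit 2, nat_lit 3, nat_lit 2, nat_lit 4, nat_lit 3, nat_lit 2, nat_lit 1, nat_lit 7, nat_lit 4, nat_lit 3, nat_lit 5], (nat_lit 681743445), (nat_lit 0)) ::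
  ([nat_lit 1, nat_lit 0, nat_lit 2, nat_lit 3, nat_lit 2, nat_lit 1, nat_lit 4, nat_lit 3, nat_lit 2, nat_lit 1, nat_lit 0, nat_lit 8, nat_lit 4], (nat_lit 682586641), (nat_lit 0)) ::
  ([nat_lit 1, nat_lit 2, nat_lit 3, nat_lit 2, nat_lit 4, nat_lit 3, nat_lit 2, nat_lit 1], (nat_lit 682878119), (nat_lit 0)) ::
  ([nat_lit 1, nat_lit 2, nat_lit 3, nat_lit 2, nat_lit 1, nat_lit 0, nat_lit 4, nat_lit 3, nat_lit 2, nat_lit 3, nat_lit 7], (nat_lit 684089648), (nat_lit 0)) ::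
  ([nat_lit 1, nat_lit 0, nat_lit 2, nat_lit 1, nat_lit 3, nat_lit 2], (nat_lit 688256041), (nat_lit 0)) ::
  ([nat_lit 1, nat_lit 2, nat_lit 3, nat_lit 2, nat_lit 1, nat_lit 0, nat_lit 4, nat_lit 3, nat_lit 2, nat_lit 1, nat_lit 3, nat_lit 8], (nat_lit 688567984), (nat_lit 0)) ::
  ([nat_lit 1, nat_lit 0, nat_lit 2, nat_lit 3, nat_lit 2, nat_lit 4, nat_lit 3, nat_lit 2, nat_lit 1], (nat_lit 689407073), (nat_lit 0)) ::
  ([nat_lit 1, nat_lit 2, nat_lit 3, nat_lit 2, nat_lit 1, nat_lit 4, nat_lit 3, nat_lit 2, nat_lit 8, nat_lit 4, nat_lit 7], (nat_lit 690799961), (nat_lit 0)) ::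
  ([nat_lit 1, nat_lit 0, nat_lit 2, nat_lit 1, nat_lit 3, nat_lit 2, nat_lit 1, nat_lit 0, nat_lit 4, nat_lit 7, nat_lit 5], (nat_lit 691021013), (nat_lit 0)) ::
  ([nat_lit 1, nat_lit 2, nat_lit 3, nat_lit 2, nat_lit 1, nat_lit 0, nat_lit 4, nat_lit 3, nat_lit 7, nat_lit 4, nat_lit 8, nat_lit 8], (nat_lit 693142391), (nat_lit 0)) ::
  ([nat_lit 1, nat_lit 0, nat_lit 2, nat_lit 3, nat_lit 2, nat_lit 1, nat_lit 4, nat_lit 3, nat_lit 7, nat_lit 5], (nat_lit 693943659), (nat_lit 0)) ::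
  ([nat_lit 1, nat_lit 2, nat_lit 3, nat_lit 2, nat_lit 1, nat_lit 0, nat_lit 4, nat_lit 7, nat_lit 6], (nat_lit 694450415), (nat_lit 0)) ::
  ([nat_lit 1, nat_lit 2, nat_lit 3, nat_lit 2, nat_lit 1, nat_lit 4, nat_lit 7, nat_lit 4], (nat_lit 696825928), (nat_lit 0)) ::
  ([nat_lit 1, nat_lit 0, nat_lit 2, nat_lit 3, nat_lit 2, nat_lit 1, nat_lit 4, nat_lit 3, nat_lit 2, nat_lit 1, nat_lit 7, nat_lit 4, nat_lit 5], (nat_lit 697045653), (nat_lit 0)) ::
  ([nat_lit 1, nat_lit 2, nat_lit 3, nat_lit 2, nat_lit 1, nat_lit 4, nat_lit 7, nat_lit 5], (nat_lit 697307332), (nat_lit 0)) ::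
  ([nat_lit 1, nat_lit 0, nat_lit 2, nat_lit 3, nat_lit 2, nat_lit 1, nat_lit 0, nat_lit 4, nat_lit 3, nat_lit 2, nat_lit 1, nat_lit 7, nat_lit 4, nat_lit 5], (nat_lit 697621794), (nat_lit 0)) ::
  ([nat_lit 1, nat_lit 2, nat_lit 3, nat_lit 2, nat_lit 1, nat_lit 4, nat_lit 3, nat_lit 8], (nat_lit 698101468), (nat_lit 0)) ::
  ([nat_lit 1, nat_lit 0, nat_lit 2, nat_lit 3, nat_lit 2, nat_lit 4, nat_lit 3, nat_lit 2, nat_lit 1, nat_lit 8, nat_lit 4, nat_lit 6], (nat_lit 700182972), (nat_lit 0)) ::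
  ([nat_lit 1, nat_lit 0, nat_lit 2, nat_lit 3, nat_lit 2, nat_lit 4, nat_lit 3, nat_lit 2, nat_lit 7], (nat_lit 702894203), (nat_lit 0)) ::
  ([nat_lit 1, nat_lit 2, nat_lit 3, nat_lit 2, nat_lit 1, nat_lit 0, nat_lit 4, nat_lit 3, nat_lit 7, nat_lit 6], (nat_lit 702928789), (nat_lit 0)) ::
  ([nat_lit 1, nat_lit 0, nat_lit 2, nat_lit 3, nat_lit 4, nat_lit 7, nat_lit 6], (nat_lit 704844620), (nat_lit 0)) ::
  ([nat_lit 1, nat_lit 0, nat_lit 2, nat_lit 3, nat_lit 2, nat_lit 1, nat_lit 4, nat_lit 3, nat_lit 2, nat_lit 1, nat_lit 8, nat_lit 4, nat_lit 3, nat_lit 5], (nat_lit 705173405), (nat_lit 0)) ::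
  ([nat_lit 1, nat_lit 2, nat_lit 3, nat_lit 2, nat_lit 4, nat_lit 3, nat_lit 2, nat_lit 7, nat_lit 4, nat_lit 3, nat_lit 2, nat_lit 1, nat_lit 5, nat_lit 7], (nat_lit 708337724), (nat_lit 0)) ::
  ([nat_lit 1, nat_lit 2, nat_lit 3, nat_lit 2, nat_lit 1, nat_lit 4, nat_lit 3, nat_lit 2, nat_lit 8, nat_lit 4, nat_lit 6], (nat_lit 708499770), (nat_lit 0)) ::
  ([nat_lit 1, nat_lit 2, nat_lit 3, nat_lit 2, nat_lit 1, nat_lit 4, nat_lit 3, nat_lit 2, nat_lit 8, nat_lit 4, nat_lit 5, nat_lit 7], (nat_lit 708953311), (nat_lit 0)) ::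
  ([nat_lit 1, nat_lit 2, nat_lit 3, nat_lit 2, nat_lit 4, nat_lit 3, nat_lit 2, nat_lit 7, nat_lit 4, nat_lit 5, nat_lit 8], (nat_lit 709311805), (nat_lit 0)) ::
  ([nat_lit 1, nat_lit 2, nat_lit 3, nat_lit 2, nat_lit 4, nat_lit 3, nat_lit 2, nat_lit 7, nat_lit 5], (nat_lit 710964596), (nat_lit 0)) ::
  clD600
noncomputable def clD500 : List (List ℕ × ℕ × ℕ) :=
  ([nat_lit 1, nat_lit 0, nat_lit 2, nat_lit 3, nat_lit 2, nat_lit 4, nat_lit 3, nat_lit 2, nat_lit 1, nat_lit 8, nat_lit 4, nat_lit 3, nat_lit 2, nat_lit 6], (nat_lit 576648875), (nat_lit 0)) ::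
  ([nat_lit 1, nat_lit 2, nat_lit 3, nat_lit 2, nat_lit 4, nat_lit 3, nat_lit 7], (nat_lit 577395975), (nat_lit 0)) ::
  ([nat_lit 1, nat_lit 0, nat_lit 2, nat_lit 3, nat_lit 2, nat_lit 1, nat_lit 4, nat_lit 3, nat_lit 2, nat_lit 1, nat_lit 7, nat_lit 4, nat_lit 6], (nat_lit 578091211), (nat_lit 0)) ::
  ([nat_lit 1, nat_lit 0, nat_lit 2, nat_lit 3, nat_lit 2, nat_lit 1, nat_lit 0, nat_lit 4, nat_lit 3, nat_lit 2, nat_lit 1, nat_lit 8, nat_lit 4, nat_lit 5], (nat_lit 579789572), (nat_lit 0)) ::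
  ([nat_lit 1, nat_lit 0, nat_lit 2, nat_lit 1, nat_lit 3, nat_lit 2, nat_lit 4, nat_lit 7, nat_lit 5], (nat_lit 581335031), (nat_lit 0)) ::
  ([nat_lit 1, nat_lit 2, nat_lit 3, nat_lit 2, nat_lit 1, nat_lit 0, nat_lit 4, nat_lit 3, nat_lit 2, nat_lit 1, nat_lit 7, nat_lit 4, nat_lit 6, nat_lit 8], (nat_lit 582382676), (nat_lit 0)) ::
  ([nat_lit 1, nat_lit 0, nat_lit 2, nat_lit 3, nat_lit 2, nat_lit 1, nat_lit 0, nat_lit 4, nat_lit 7, nat_lit 4], (nat_lit 582538461), (nat_lit 0)) ::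
  ([nat_lit 1, nat_lit 2, nat_lit 3, nat_lit 2, nat_lit 4, nat_lit 3, nat_lit 8, nat_lit 4, nat_lit 7, nat_lit 6], (nat_lit 583404663), (nat_lit 0)) ::
  ([nat_lit 1, nat_lit 0, nat_lit 2, nat_lit 3, nat_lit 2, nat_lit 1, nat_lit 0, nat_lit 4, nat_lit 3, nat_lit 2, nat_lit 1, nat_lit 8, nat_lit 4], (nat_lit 584081977), (nat_lit 0)) ::
  ([nat_lit 1, nat_lit 2, nat_lit 3, nat_lit 4, nat_lit 7, nat_lit 6], (nat_lit 592371663), (nat_lit 0)) ::
  ([nat_lit 1, nat_lit 2, nat_lit 3, nat_lit 2, nat_lit 4, nat_lit 3, nat_lit 7, nat_lit 4, nat_lit 3, nat_lit 7], (nat_lit 593098022), (nat_lit 0)) ::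
  ([nat_lit 1, nat_lit 0, nat_lit 2, nat_lit 3, nat_lit 2, nat_lit 4, nat_lit 3, nat_lit 2, nat_lit 8, nat_lit 5], (nat_lit 593341420), (nat_lit 0)) ::
  ([nat_lit 1, nat_lit 2, nat_lit 3, nat_lit 2, nat_lit 4, nat_lit 3, nat_lit 8], (nat_lit 597235024), (nat_lit 0)) ::
  ([nat_lit 1, nat_lit 2, nat_lit 3, nat_lit 2, nat_lit 1, nat_lit 4, nat_lit 3, nat_lit 2, nat_lit 1, nat_lit 0, nat_lit 8, nat_lit 6], (nat_lit 597999105), (nat_lit 0)) ::
  ([nat_lit 1, nat_lit 2, nat_lit 3, nat_lit 4], (nat_lit 598382403), (nat_lit 0)) ::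
  ([nat_lit 1, nat_lit 2, nat_lit 3, nat_lit 2, nat_lit 1, nat_lit 4, nat_lit 3, nat_lit 2, nat_lit 1, nat_lit 0, nat_lit 3, nat_lit 8], (nat_lit 601039752), (nat_lit 0)) ::
  ([nat_lit 1, nat_lit 2, nat_lit 3, nat_lit 2, nat_lit 1, nat_lit 0, nat_lit 4, nat_lit 3, nat_lit 2, nat_lit 8, nat_lit 6], (nat_lit 601082961), (nat_lit 0)) ::
  ([nat_lit 1, nat_lit 0, nat_lit 2, nat_lit 3, nat_lit 2, nat_lit 4, nat_lit 8, nat_lit 5], (nat_lit 601171641), (nat_lit 0)) ::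
  ([nat_lit 1, nat_lit 2, nat_lit 3, nat_lit 2, nat_lit 4, nat_lit 3, nat_lit 7, nat_lit 4, nat_lit 5, nat_lit 8], (nat_lit 601543612), (nat_lit 0)) ::
  ([nat_lit 1, nat_lit 0, nat_lit 2, nat_lit 3, nat_lit 2, nat_lit 4, nat_lit 3, nat_lit 2, nat_lit 7, nat_lit 4, nat_lit 3], (nat_lit 603004756), (nat_lit 0)) ::
  ([nat_lit 1, nat_lit 2, nat_lit 3, nat_lit 2, nat_lit 1, nat_lit 0, nat_lit 4, nat_lit 3, nat_lit 8, nat_lit 4, nat_lit 8, nat_lit 5], (nat_lit 603686630), (nat_lit 0)) ::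
  ([nat_lit 1, nat_lit 0, nat_lit 2, nat_lit 3], (nat_lit 603832531), (nat_lit 0)) ::
  ([], (nat_lit 605373675), (nat_lit 63063)) ::
  ([nat_lit 1, nat_lit 0, nat_lit 2, nat_lit 1, nat_lit 3, nat_lit 2, nat_lit 1, nat_lit 4, nat_lit 7, nat_lit 5], (nat_lit 605913909), (nat_lit 0)) ::
  ([nat_lit 1, nat_lit 2, nat_lit 3, nat_lit 2, nat_lit 1, nat_lit 4, nat_lit 3, nat_lit 2, nat_lit 8, nat_lit 4, nat_lit 8, nat_lit 4, nat_lit 3], (nat_lit 607327156), (nat_lit 0)) ::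
  ([nat_lit 1, nat_lit 2, nat_lit 3, nat_lit 2, nat_lit 1, nat_lit 0, nat_lit 4, nat_lit 3, nat_lit 2, nat_lit 1, nat_lit 7, nat_lit 4, nat_lit 7], (nat_lit 608594501), (nat_lit 0)) ::
  ([nat_lit 1, nat_lit 0, nat_lit 2, nat_lit 3, nat_lit 2, nat_lit 4, nat_lit 7], (nat_lit 609685605), (nat_lit 0)) ::
  ([nat_lit 1, nat_lit 2, nat_lit 3, nat_lit 2, nat_lit 1, nat_lit 0, nat_lit 4, nat_lit 3, nat_lit 8, nat_lit 4, nat_lit 6], (nat_lit 610580395), (nat_lit 0)) ::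
  ([nat_lit 1, nat_lit 2, nat_lit 3, nat_lit 2, nat_lit 4, nat_lit 3, nat_lit 2, nat_lit 1, nat_lit 7, nat_lit 4, nat_lit 5], (nat_lit 613619262), (nat_lit 0)) ::
  ([nat_lit 1, nat_lit 2, nat_lit 3, nat_lit 2, nat_lit 4, nat_lit 3, nat_lit 2, nat_lit 1, nat_lit 7, nat_lit 4, nat_lit 3, nat_lit 2, nat_lit 1], (nat_lit 613694595), (nat_lit 0)) ::
  ([nat_lit 1, nat_lit 2, nat_lit 3, nat_lit 2, nat_lit 4, nat_lit 3, nat_lit 8, nat_lit 4, nat_lit 7], (nat_lit 614381252), (nat_lit 0)) ::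
  ([nat_lit 1, nat_lit 2, nat_lit 3, nat_lit 2, nat_lit 1, nat_lit 4, nat_lit 3, nat_lit 2, nat_lit 3, nat_lit 8], (nat_lit 614793263), (nat_lit 0)) ::
  ([nat_lit 1, nat_lit 0, nat_lit 2, nat_lit 3, nat_lit 2, nat_lit 4, nat_lit 3, nat_lit 2, nat_lit 1, nat_lit 8, nat_lit 6], (nat_lit 614955422), (nat_lit 0)) ::
  ([nat_lit 1, nat_lit 2, nat_lit 3, nat_lit 2, nat_lit 1, nat_lit 4, nat_lit 3, nat_lit 2, nat_lit 1, nat_lit 8, nat_lit 4, nat_lit 8, nat_lit 6], (nat_lit 615432504), (nat_lit 0)) ::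
  ([nat_lit 1, nat_lit 0, nat_lit 2, nat_lit 3, nat_lit 2, nat_lit 1, nat_lit 4, nat_lit 3, nat_lit 8, nat_lit 6], (nat_lit 616120690), (nat_lit 0)) ::
  ([nat_lit 1, nat_lit 2, nat_lit 3, nat_lit 2, nat_lit 1, nat_lit 4, nat_lit 3, nat_lit 2, nat_lit 1, nat_lit 8, nat_lit 4, nat_lit 8, nat_lit 5], (nat_lit 616505884), (nat_lit 0)) ::
  ([nat_lit 1, nat_lit 0, nat_lit 2, nat_lit 3, nat_lit 2, nat_lit 1, nat_lit 0, nat_lit 4, nat_lit 3, nat_lit 2, nat_lit 1, nat_lit 0, nat_lit 7, nat_lit 4], (nat_lit 617375232), (nat_lit 0)) ::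
  ([nat_lit 1, nat_lit 0, nat_lit 2, nat_lit 3, nat_lit 2, nat_lit 1, nat_lit 4, nat_lit 3, nat_lit 7, nat_lit 4, nat_lit 7, nat_lit 5], (nat_lit 619110419), (nat_lit 0)) ::
  ([nat_lit 1, nat_lit 0, nat_lit 2, nat_lit 3, nat_lit 2, nat_lit 1, nat_lit 0, nat_lit 4, nat_lit 3, nat_lit 2, nat_lit 1, nat_lit 8, nat_lit 5], (nat_lit 619224220), (nat_lit 0)) ::
  ([nat_lit 1, nat_lit 2, nat_lit 3, nat_lit 2, nat_lit 4, nat_lit 3, nat_lit 2, nat_lit 1, nat_lit 7, nat_lit 4, nat_lit 3, nat_lit 2, nat_lit 1, nat_lit 6], (nat_lit 623328547), (nat_lit 0)) ::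
  ([nat_lit 1, nat_lit 2, nat_lit 3, nat_lit 2, nat_lit 4, nat_lit 3, nat_lit 2, nat_lit 8, nat_lit 4, nat_lit 3, nat_lit 2], (nat_lit 623446233), (nat_lit 0)) ::
  ([nat_lit 1, nat_lit 0, nat_lit 2, nat_lit 3, nat_lit 2, nat_lit 4, nat_lit 3, nat_lit 8, nat_lit 5], (nat_lit 625467954), (nat_lit 0)) ::
  ([nat_lit 1, nat_lit 0, nat_lit 2, nat_lit 3, nat_lit 2, nat_lit 4, nat_lit 3, nat_lit 2, nat_lit 1, nat_lit 0, nat_lit 8, nat_lit 4, nat_lit 7], (nat_lit 626999866), (nat_lit 0)) ::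
  ([nat_lit 1, nat_lit 2, nat_lit 3, nat_lit 2, nat_lit 4, nat_lit 3, nat_lit 2, nat_lit 1, nat_lit 0, nat_lit 8, nat_lit 6], (nat_lit 634273374), (nat_lit 0)) ::
  ([nat_lit 1, nat_lit 0, nat_lit 2, nat_lit 3, nat_lit 2, nat_lit 1, nat_lit 0, nat_lit 4, nat_lit 3, nat_lit 2, nat_lit 1, nat_lit 7, nat_lit 4, nat_lit 8], (nat_lit 634960577), (nat_lit 0)) ::
  ([nat_lit 1, nat_lit 2, nat_lit 3, nat_lit 2, nat_lit 4, nat_lit 3, nat_lit 2, nat_lit 1, nat_lit 7, nat_lit 4, nat_lit 3, nat_lit 2, nat_lit 1, nat_lit 5], (nat_lit 636391355), (nat_lit 0)) ::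
  ([nat_lit 1, nat_lit 2, nat_lit 3, nat_lit 2, nat_lit 4, nat_lit 3, nat_lit 2, nat_lit 8, nat_lit 4, nat_lit 7, nat_lit 6], (nat_lit 636505095), (nat_lit 0)) ::
  ([nat_lit 1, nat_lit 2, nat_lit 3, nat_lit 2, nat_lit 4, nat_lit 3, nat_lit 2, nat_lit 8, nat_lit 4, nat_lit 3], (nat_lit 636844327), (nat_lit 0)) ::
  ([nat_lit 1, nat_lit 2, nat_lit 3, nat_lit 2, nat_lit 1, nat_lit 0, nat_lit 4, nat_lit 3, nat_lit 2, nat_lit 1, nat_lit 0, nat_lit 7], (nat_lit 639294098), (nat_lit 0)) ::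
  ([nat_lit 1, nat_lit 0, nat_lit 2, nat_lit 3, nat_lit 2, nat_lit 1, nat_lit 0, nat_lit 4, nat_lit 3, nat_lit 7, nat_lit 6], (nat_lit 640750711), (nat_lit 0)) ::
  clD550
noncomputable def clD450 : List (List ℕ × ℕ × ℕ) :=
  ([nat_lit 1, nat_lit 2, nat_lit 3, nat_lit 2, nat_lit 4, nat_lit 3, nat_lit 7, nat_lit 4], (nat_lit 530656445), (nat_lit 0)) ::
  ([nat_lit 1, nat_lit 2, nat_lit 3, nat_lit 2, nat_lit 4, nat_lit 3, nat_lit 2, nat_lit 7, nat_lit 6], (nat_lit 532497547), (nat_lit 0)) ::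
  ([nat_lit 1, nat_lit 2, nat_lit 3, nat_lit 2], (nat_lit 533489570), (nat_lit 0)) ::
  ([nat_lit 1, nat_lit 0, nat_lit 2, nat_lit 3, nat_lit 2, nat_lit 4, nat_lit 3, nat_lit 2, nat_lit 8, nat_lit 4, nat_lit 3, nat_lit 2, nat_lit 6, nat_lit 8], (nat_lit 533542631), (nat_lit 0)) ::
  ([nat_lit 1, nat_lit 0, nat_lit 2, nat_lit 3, nat_lit 4], (nat_lit 534434205), (nat_lit 0)) ::
  ([nat_lit 1, nat_lit 2, nat_lit 3, nat_lit 2, nat_lit 4, nat_lit 3, nat_lit 2, nat_lit 7, nat_lit 4, nat_lit 3, nat_lit 2, nat_lit 6], (nat_lit 534545572), (nat_lit 0)) ::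
  ([nat_lit 1, nat_lit 2, nat_lit 3, nat_lit 4, nat_lit 7, nat_lit 4], (nat_lit 535693237), (nat_lit 0)) ::
  ([nat_lit 1, nat_lit 2, nat_lit 3, nat_lit 2, nat_lit 1, nat_lit 0, nat_lit 4, nat_lit 3, nat_lit 2, nat_lit 1, nat_lit 7, nat_lit 4, nat_lit 6, nat_lit 7], (nat_lit 536276743), (nat_lit 0)) ::
  ([nat_lit 1, nat_lit 2, nat_lit 3, nat_lit 2, nat_lit 4, nat_lit 3, nat_lit 2, nat_lit 7, nat_lit 4, nat_lit 3, nat_lit 2, nat_lit 8], (nat_lit 536383072), (nat_lit 0)) ::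
  ([nat_lit 1, nat_lit 0, nat_lit 2, nat_lit 3, nat_lit 2, nat_lit 4, nat_lit 7, nat_lit 5], (nat_lit 536581063), (nat_lit 0)) ::
  ([nat_lit 1, nat_lit 2, nat_lit 3, nat_lit 2, nat_lit 1, nat_lit 0, nat_lit 4, nat_lit 3, nat_lit 2, nat_lit 1, nat_lit 0, nat_lit 7, nat_lit 4], (nat_lit 538109881), (nat_lit 0)) ::
  ([nat_lit 1, nat_lit 0, nat_lit 2, nat_lit 3, nat_lit 2, nat_lit 4, nat_lit 3, nat_lit 2, nat_lit 7, nat_lit 4, nat_lit 7], (nat_lit 541433936), (nat_lit 0)) ::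
  ([nat_lit 1, nat_lit 0, nat_lit 2, nat_lit 3, nat_lit 2], (nat_lit 541511905), (nat_lit 0)) ::
  ([nat_lit 1, nat_lit 2, nat_lit 3, nat_lit 2, nat_lit 1, nat_lit 4, nat_lit 3, nat_lit 2, nat_lit 1, nat_lit 8], (nat_lit 541661013), (nat_lit 0)) ::
  ([nat_lit 1, nat_lit 2, nat_lit 3, nat_lit 2, nat_lit 4, nat_lit 3, nat_lit 2, nat_lit 1, nat_lit 0, nat_lit 7, nat_lit 4, nat_lit 5], (nat_lit 543312566), (nat_lit 0)) ::
  ([nat_lit 1, nat_lit 0, nat_lit 2, nat_lit 3, nat_lit 2, nat_lit 1, nat_lit 4, nat_lit 3, nat_lit 7, nat_lit 4, nat_lit 8], (nat_lit 543954932), (nat_lit 0)) ::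
  ([nat_lit 1, nat_lit 0, nat_lit 2, nat_lit 3, nat_lit 2, nat_lit 1, nat_lit 4, nat_lit 3, nat_lit 8, nat_lit 5], (nat_lit 545642591), (nat_lit 0)) ::
  ([nat_lit 1, nat_lit 0, nat_lit 2, nat_lit 3, nat_lit 2, nat_lit 4, nat_lit 3, nat_lit 8, nat_lit 6], (nat_lit 546372687), (nat_lit 0)) ::
  ([nat_lit 1, nat_lit 0, nat_lit 2, nat_lit 3, nat_lit 2, nat_lit 4, nat_lit 3, nat_lit 2, nat_lit 1, nat_lit 8], (nat_lit 546483671), (nat_lit 0)) ::
  ([nat_lit 1, nat_lit 2, nat_lit 3, nat_lit 2, nat_lit 4, nat_lit 3, nat_lit 2, nat_lit 7, nat_lit 4, nat_lit 8, nat_lit 5], (nat_lit 546567547), (nat_lit 0)) ::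
  ([nat_lit 1, nat_lit 0, nat_lit 2, nat_lit 3, nat_lit 2, nat_lit 4, nat_lit 3, nat_lit 2, nat_lit 1, nat_lit 8, nat_lit 4, nat_lit 7], (nat_lit 550161175), (nat_lit 0)) ::
  ([nat_lit 1, nat_lit 2, nat_lit 3, nat_lit 2, nat_lit 1, nat_lit 0, nat_lit 4, nat_lit 3, nat_lit 2, nat_lit 3, nat_lit 8, nat_lit 6], (nat_lit 550238015), (nat_lit 0)) ::
  ([nat_lit 1, nat_lit 0, nat_lit 2, nat_lit 3, nat_lit 2, nat_lit 4, nat_lit 3, nat_lit 8, nat_lit 4, nat_lit 6], (nat_lit 551351856), (nat_lit 0)) ::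
  ([nat_lit 1, nat_lit 2, nat_lit 3, nat_lit 2, nat_lit 4, nat_lit 3, nat_lit 2, nat_lit 1, nat_lit 7], (nat_lit 554973820), (nat_lit 0)) ::
  ([nat_lit 1, nat_lit 2, nat_lit 3, nat_lit 2, nat_lit 1, nat_lit 4, nat_lit 3, nat_lit 2, nat_lit 8], (nat_lit 555099346), (nat_lit 0)) ::
  ([nat_lit 1, nat_lit 0, nat_lit 2, nat_lit 3, nat_lit 2, nat_lit 1], (nat_lit 556678140), (nat_lit 0)) ::
  ([nat_lit 1, nat_lit 2, nat_lit 3, nat_lit 2, nat_lit 1, nat_lit 4, nat_lit 3, nat_lit 2, nat_lit 1, nat_lit 7, nat_lit 4, nat_lit 5], (nat_lit 556946434), (nat_lit 0)) ::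
  ([nat_lit 1, nat_lit 2, nat_lit 3, nat_lit 2, nat_lit 4, nat_lit 3, nat_lit 2, nat_lit 7, nat_lit 4, nat_lit 6, nat_lit 8], (nat_lit 560017039), (nat_lit 0)) ::
  ([nat_lit 1, nat_lit 0, nat_lit 2, nat_lit 3, nat_lit 2, nat_lit 4, nat_lit 3, nat_lit 2, nat_lit 1, nat_lit 7, nat_lit 6], (nat_lit 560126702), (nat_lit 0)) ::
  ([nat_lit 1, nat_lit 2, nat_lit 3, nat_lit 2, nat_lit 1, nat_lit 0, nat_lit 4, nat_lit 3, nat_lit 2, nat_lit 7, nat_lit 4, nat_lit 8], (nat_lit 560604614), (nat_lit 0)) ::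
  ([nat_lit 1, nat_lit 2, nat_lit 3, nat_lit 2, nat_lit 1, nat_lit 0, nat_lit 4, nat_lit 3, nat_lit 2, nat_lit 3, nat_lit 8], (nat_lit 560784103), (nat_lit 0)) ::
  ([nat_lit 1, nat_lit 2, nat_lit 3, nat_lit 2, nat_lit 1, nat_lit 0, nat_lit 4, nat_lit 3, nat_lit 7, nat_lit 5], (nat_lit 561017527), (nat_lit 0)) ::
  ([nat_lit 1, nat_lit 2, nat_lit 3, nat_lit 2, nat_lit 1, nat_lit 0, nat_lit 4, nat_lit 3, nat_lit 7, nat_lit 4, nat_lit 8], (nat_lit 563784811), (nat_lit 0)) ::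
  ([nat_lit 1, nat_lit 2, nat_lit 3, nat_lit 2, nat_lit 4, nat_lit 3, nat_lit 2, nat_lit 1, nat_lit 7, nat_lit 4, nat_lit 3, nat_lit 7, nat_lit 5], (nat_lit 564212834), (nat_lit 0)) ::
  ([nat_lit 1, nat_lit 0, nat_lit 2, nat_lit 3, nat_lit 2, nat_lit 4, nat_lit 3, nat_lit 2, nat_lit 1, nat_lit 0, nat_lit 7, nat_lit 5], (nat_lit 565153675), (nat_lit 0)) ::
  ([nat_lit 1, nat_lit 2, nat_lit 3, nat_lit 2, nat_lit 1, nat_lit 4, nat_lit 3, nat_lit 2, nat_lit 1, nat_lit 7, nat_lit 4, nat_lit 7, nat_lit 4, nat_lit 3], (nat_lit 565948495), (nat_lit 0)) ::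
  ([nat_lit 1, nat_lit 2, nat_lit 3, nat_lit 2, nat_lit 1, nat_lit 0, nat_lit 4, nat_lit 3], (nat_lit 567049360), (nat_lit 0)) ::
  ([nat_lit 1, nat_lit 2, nat_lit 3, nat_lit 2, nat_lit 4, nat_lit 3, nat_lit 2, nat_lit 8, nat_lit 4, nat_lit 8, nat_lit 4, nat_lit 3], (nat_lit 567184440), (nat_lit 0)) ::
  ([nat_lit 1, nat_lit 2, nat_lit 3, nat_lit 2, nat_lit 4, nat_lit 3, nat_lit 2, nat_lit 7, nat_lit 4, nat_lit 3, nat_lit 7], (nat_lit 567379986), (nat_lit 0)) ::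
  ([nat_lit 1, nat_lit 2, nat_lit 3, nat_lit 2, nat_lit 1, nat_lit 0, nat_lit 4, nat_lit 3, nat_lit 2, nat_lit 1, nat_lit 7, nat_lit 4, nat_lit 5], (nat_lit 567462428), (nat_lit 0)) ::
  ([nat_lit 1, nat_lit 2, nat_lit 3, nat_lit 2, nat_lit 1, nat_lit 0, nat_lit 4, nat_lit 3, nat_lit 2, nat_lit 7, nat_lit 4, nat_lit 6], (nat_lit 567547649), (nat_lit 0)) ::
  ([nat_lit 1, nat_lit 0, nat_lit 2, nat_lit 1, nat_lit 3, nat_lit 4, nat_lit 7, nat_lit 6], (nat_lit 568698041), (nat_lit 0)) ::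
  ([nat_lit 1, nat_lit 2, nat_lit 3, nat_lit 2, nat_lit 1, nat_lit 4, nat_lit 3, nat_lit 2, nat_lit 3, nat_lit 8, nat_lit 6], (nat_lit 568753011), (nat_lit 0)) ::
  ([nat_lit 1, nat_lit 0, nat_lit 2, nat_lit 3, nat_lit 4, nat_lit 8], (nat_lit 569493907), (nat_lit 0)) ::
  ([nat_lit 1, nat_lit 2, nat_lit 3, nat_lit 2, nat_lit 1, nat_lit 0, nat_lit 4, nat_lit 3, nat_lit 2, nat_lit 1, nat_lit 0, nat_lit 8, nat_lit 5], (nat_lit 570219685), (nat_lit 0)) ::
  ([nat_lit 1, nat_lit 2, nat_lit 3, nat_lit 2, nat_lit 4, nat_lit 7, nat_lit 5], (nat_lit 570895001), (nat_lit 0)) ::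
  ([nat_lit 1, nat_lit 0, nat_lit 2, nat_lit 3, nat_lit 2, nat_lit 4, nat_lit 8], (nat_lit 572451222), (nat_lit 0)) ::
  ([nat_lit 1, nat_lit 2, nat_lit 3, nat_lit 2, nat_lit 4, nat_lit 3, nat_lit 2, nat_lit 1, nat_lit 7, nat_lit 6], (nat_lit 572760227), (nat_lit 0)) ::
  ([nat_lit 1, nat_lit 0, nat_lit 2, nat_lit 3, nat_lit 2, nat_lit 1, nat_lit 0, nat_lit 4, nat_lit 3, nat_lit 7], (nat_lit 572819377), (nat_lit 0)) ::
  ([nat_lit 1, nat_lit 2, nat_lit 3, nat_lit 2, nat_lit 1, nat_lit 4, nat_lit 3, nat_lit 2, nat_lit 8, nat_lit 4, nat_lit 5], (nat_lit 574603840), (nat_lit 0)) ::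
  clD500
noncomputable def clD400 : List (List ℕ × ℕ × ℕ) :=
  ([nat_lit 1, nat_lit 0, nat_lit 2, nat_lit 1, nat_lit 3, nat_lit 4, nat_lit 8], (nat_lit 465090613), (nat_lit 0)) ::
  ([nat_lit 1, nat_lit 2, nat_lit 3, nat_lit 2, nat_lit 1, nat_lit 0, nat_lit 4, nat_lit 3, nat_lit 8, nat_lit 5], (nat_lit 465896913), (nat_lit 0)) ::
  ([nat_lit 1, nat_lit 2, nat_lit 3, nat_lit 2, nat_lit 1, nat_lit 0, nat_lit 4, nat_lit 3, nat_lit 7], (nat_lit 468639178), (nat_lit 0)) ::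
  ([nat_lit 1, nat_lit 2, nat_lit 3, nat_lit 2, nat_lit 1, nat_lit 0, nat_lit 4, nat_lit 3, nat_lit 2, nat_lit 1, nat_lit 8, nat_lit 4, nat_lit 8, nat_lit 5], (nat_lit 469521165), (nat_lit 0)) ::
  ([nat_lit 1, nat_lit 0, nat_lit 2, nat_lit 1, nat_lit 3, nat_lit 2, nat_lit 4, nat_lit 7, nat_lit 4], (nat_lit 470853717), (nat_lit 0)) ::
  ([nat_lit 1, nat_lit 2, nat_lit 3, nat_lit 2, nat_lit 4, nat_lit 3, nat_lit 2, nat_lit 1, nat_lit 7, nat_lit 4, nat_lit 3, nat_lit 2, nat_lit 6], (nat_lit 471050752), (nat_lit 0)) ::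
  ([nat_lit 1, nat_lit 0, nat_lit 2, nat_lit 3, nat_lit 2, nat_lit 4, nat_lit 3, nat_lit 7, nat_lit 4, nat_lit 6], (nat_lit 471147617), (nat_lit 0)) ::
  ([nat_lit 1, nat_lit 0, nat_lit 2, nat_lit 3, nat_lit 2, nat_lit 1, nat_lit 4, nat_lit 3, nat_lit 2, nat_lit 7, nat_lit 4, nat_lit 7, nat_lit 4], (nat_lit 471223757), (nat_lit 0)) ::
  ([nat_lit 1, nat_lit 0, nat_lit 2, nat_lit 3, nat_lit 2, nat_lit 4, nat_lit 3, nat_lit 2, nat_lit 1, nat_lit 8, nat_lit 4, nat_lit 3, nat_lit 2, nat_lit 8], (nat_lit 471962555), (nat_lit 0)) ::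
  ([nat_lit 1, nat_lit 2, nat_lit 3, nat_lit 2, nat_lit 1, nat_lit 0, nat_lit 4, nat_lit 3, nat_lit 2, nat_lit 1, nat_lit 0, nat_lit 7, nat_lit 6], (nat_lit 472113647), (nat_lit 0)) ::
  ([nat_lit 1, nat_lit 2, nat_lit 3, nat_lit 2, nat_lit 1, nat_lit 0, nat_lit 4, nat_lit 3, nat_lit 7, nat_lit 4, nat_lit 8, nat_lit 5], (nat_lit 472327432), (nat_lit 0)) ::
  ([nat_lit 1, nat_lit 2, nat_lit 3, nat_lit 2, nat_lit 1, nat_lit 0, nat_lit 4, nat_lit 3, nat_lit 2, nat_lit 1, nat_lit 0, nat_lit 8], (nat_lit 473101686), (nat_lit 0)) ::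
  ([nat_lit 1, nat_lit 2, nat_lit 3, nat_lit 2, nat_lit 4, nat_lit 3, nat_lit 2, nat_lit 7, nat_lit 4, nat_lit 3, nat_lit 2, nat_lit 5], (nat_lit 475975396), (nat_lit 0)) ::
  ([nat_lit 1, nat_lit 0, nat_lit 2, nat_lit 3, nat_lit 2, nat_lit 1, nat_lit 4, nat_lit 3, nat_lit 2, nat_lit 1, nat_lit 7, nat_lit 5], (nat_lit 479146109), (nat_lit 0)) ::
  ([nat_lit 1, nat_lit 2, nat_lit 3, nat_lit 2, nat_lit 4, nat_lit 3, nat_lit 2, nat_lit 7, nat_lit 4, nat_lit 3, nat_lit 7, nat_lit 5], (nat_lit 479332848), (nat_lit 0)) ::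
  ([nat_lit 1, nat_lit 2, nat_lit 3, nat_lit 2, nat_lit 1, nat_lit 0, nat_lit 4, nat_lit 3, nat_lit 2, nat_lit 8], (nat_lit 480883665), (nat_lit 0)) ::
  ([nat_lit 1, nat_lit 2, nat_lit 3, nat_lit 2, nat_lit 1, nat_lit 4, nat_lit 3, nat_lit 2, nat_lit 7, nat_lit 4, nat_lit 8], (nat_lit 482224746), (nat_lit 0)) ::
  ([nat_lit 1, nat_lit 2, nat_lit 3, nat_lit 2, nat_lit 4, nat_lit 3, nat_lit 2, nat_lit 1, nat_lit 0, nat_lit 7, nat_lit 5], (nat_lit 484830532), (nat_lit 0)) ::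
  ([nat_lit 1, nat_lit 0, nat_lit 2, nat_lit 3, nat_lit 2, nat_lit 1, nat_lit 0, nat_lit 4, nat_lit 3, nat_lit 2, nat_lit 1, nat_lit 0, nat_lit 8, nat_lit 4], (nat_lit 486707459), (nat_lit 0)) ::
  ([nat_lit 1, nat_lit 2, nat_lit 3, nat_lit 2, nat_lit 4, nat_lit 3, nat_lit 2, nat_lit 7, nat_lit 4, nat_lit 3, nat_lit 2, nat_lit 1, nat_lit 0, nat_lit 5], (nat_lit 486849873), (nat_lit 0)) ::
  ([nat_lit 1, nat_lit 0, nat_lit 2, nat_lit 3, nat_lit 2, nat_lit 1, nat_lit 4, nat_lit 3, nat_lit 8, nat_lit 4], (nat_lit 489382728), (nat_lit 0)) ::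
  ([nat_lit 1, nat_lit 0, nat_lit 2, nat_lit 3, nat_lit 2, nat_lit 4, nat_lit 3, nat_lit 2, nat_lit 7, nat_lit 5], (nat_lit 489683243), (nat_lit 0)) ::
  ([nat_lit 1, nat_lit 0, nat_lit 2, nat_lit 3, nat_lit 2, nat_lit 1, nat_lit 4, nat_lit 7, nat_lit 5], (nat_lit 492245550), (nat_lit 0)) ::
  ([nat_lit 1, nat_lit 2, nat_lit 3, nat_lit 2, nat_lit 1, nat_lit 4, nat_lit 3, nat_lit 7, nat_lit 4, nat_lit 8], (nat_lit 494722058), (nat_lit 0)) ::
  ([nat_lit 1, nat_lit 0, nat_lit 2, nat_lit 3, nat_lit 2, nat_lit 4, nat_lit 3, nat_lit 2, nat_lit 8, nat_lit 4, nat_lit 3, nat_lit 5], (nat_lit 495768673), (nat_lit 0)) ::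
  ([nat_lit 1, nat_lit 2, nat_lit 3, nat_lit 2, nat_lit 4, nat_lit 3, nat_lit 2, nat_lit 8], (nat_lit 500491505), (nat_lit 0)) ::
  ([nat_lit 1, nat_lit 2, nat_lit 3, nat_lit 2, nat_lit 1, nat_lit 4, nat_lit 3, nat_lit 2, nat_lit 1, nat_lit 3, nat_lit 7], (nat_lit 501955836), (nat_lit 0)) ::
  ([nat_lit 1, nat_lit 2, nat_lit 3, nat_lit 2, nat_lit 1, nat_lit 4, nat_lit 3, nat_lit 2, nat_lit 3, nat_lit 7, nat_lit 5], (nat_lit 502260997), (nat_lit 0)) ::
  ([nat_lit 1, nat_lit 2, nat_lit 3, nat_lit 2, nat_lit 1, nat_lit 0, nat_lit 4, nat_lit 3, nat_lit 2, nat_lit 8, nat_lit 4, nat_lit 7, nat_lit 7], (nat_lit 502762542), (nat_lit 0)) ::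
  ([nat_lit 1, nat_lit 0, nat_lit 2, nat_lit 3, nat_lit 2, nat_lit 1, nat_lit 4, nat_lit 3, nat_lit 2, nat_lit 1, nat_lit 0, nat_lit 8, nat_lit 4, nat_lit 3, nat_lit 6], (nat_lit 503211327), (nat_lit 0)) ::
  ([nat_lit 1, nat_lit 2, nat_lit 3, nat_lit 2, nat_lit 1, nat_lit 4, nat_lit 3, nat_lit 2, nat_lit 1, nat_lit 3, nat_lit 2], (nat_lit 506502380), (nat_lit 0)) ::
  ([nat_lit 1, nat_lit 0, nat_lit 2, nat_lit 3, nat_lit 2, nat_lit 4, nat_lit 3, nat_lit 2, nat_lit 1, nat_lit 7, nat_lit 4, nat_lit 5], (nat_lit 510559063), (nat_lit 0)) ::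
  ([nat_lit 1, nat_lit 2, nat_lit 3, nat_lit 2, nat_lit 1, nat_lit 4, nat_lit 3, nat_lit 2, nat_lit 7, nat_lit 4], (nat_lit 514166276), (nat_lit 0)) ::
  ([nat_lit 1, nat_lit 2, nat_lit 3, nat_lit 2, nat_lit 1, nat_lit 4, nat_lit 3, nat_lit 2, nat_lit 1, nat_lit 8, nat_lit 5], (nat_lit 515836397), (nat_lit 0)) ::
  ([nat_lit 1, nat_lit 2, nat_lit 3, nat_lit 2, nat_lit 4, nat_lit 3, nat_lit 8, nat_lit 4, nat_lit 8, nat_lit 8], (nat_lit 517151767), (nat_lit 0)) ::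
  ([nat_lit 1, nat_lit 0, nat_lit 2, nat_lit 1], (nat_lit 517332882), (nat_lit 17199)) ::
  ([nat_lit 1, nat_lit 2, nat_lit 3, nat_lit 2, nat_lit 4, nat_lit 3, nat_lit 2, nat_lit 8, nat_lit 4, nat_lit 8, nat_lit 4], (nat_lit 518040378), (nat_lit 0)) ::
  ([nat_lit 1, nat_lit 2, nat_lit 3, nat_lit 2, nat_lit 4, nat_lit 3, nat_lit 2, nat_lit 7, nat_lit 4, nat_lit 3, nat_lit 2, nat_lit 1, nat_lit 7], (nat_lit 518303415), (nat_lit 0)) ::
  ([nat_lit 1, nat_lit 2, nat_lit 3, nat_lit 2, nat_lit 1, nat_lit 0, nat_lit 4, nat_lit 3, nat_lit 7, nat_lit 4], (nat_lit 521747480), (nat_lit 0)) ::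
  ([nat_lit 1, nat_lit 2, nat_lit 3, nat_lit 2, nat_lit 1, nat_lit 4, nat_lit 3, nat_lit 2, nat_lit 1, nat_lit 0, nat_lit 8], (nat_lit 522002403), (nat_lit 0)) ::
  ([nat_lit 1, nat_lit 0, nat_lit 2, nat_lit 3, nat_lit 4, nat_lit 8, nat_lit 5], (nat_lit 522894552), (nat_lit 0)) ::
  ([nat_lit 1, nat_lit 2, nat_lit 3, nat_lit 2, nat_lit 1, nat_lit 0, nat_lit 4, nat_lit 3, nat_lit 2, nat_lit 1, nat_lit 8, nat_lit 4, nat_lit 7, nat_lit 7], (nat_lit 523116132), (nat_lit 0)) ::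
  ([nat_lit 1, nat_lit 0, nat_lit 2, nat_lit 3, nat_lit 2, nat_lit 1, nat_lit 4, nat_lit 3, nat_lit 2, nat_lit 1, nat_lit 8, nat_lit 4, nat_lit 6], (nat_lit 524447507), (nat_lit 0)) ::
  ([nat_lit 1, nat_lit 2, nat_lit 3, nat_lit 2, nat_lit 1, nat_lit 4, nat_lit 3, nat_lit 8, nat_lit 4, nat_lit 7, nat_lit 6], (nat_lit 524901795), (nat_lit 0)) ::
  ([nat_lit 1, nat_lit 0, nat_lit 2, nat_lit 3, nat_lit 2, nat_lit 1, nat_lit 0, nat_lit 4, nat_lit 3, nat_lit 2, nat_lit 7, nat_lit 4, nat_lit 7], (nat_lit 525796807), (nat_lit 0)) ::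
  ([nat_lit 1, nat_lit 2, nat_lit 3, nat_lit 2, nat_lit 1, nat_lit 0, nat_lit 4, nat_lit 3, nat_lit 2, nat_lit 1, nat_lit 7, nat_lit 4, nat_lit 8, nat_lit 5], (nat_lit 525859323), (nat_lit 0)) ::
  ([nat_lit 1, nat_lit 0, nat_lit 2, nat_lit 3, nat_lit 2, nat_lit 1, nat_lit 0, nat_lit 4, nat_lit 3, nat_lit 2, nat_lit 1, nat_lit 7, nat_lit 4, nat_lit 3, nat_lit 6], (nat_lit 525871906), (nat_lit 0)) ::
  ([nat_lit 1, nat_lit 2, nat_lit 3, nat_lit 2, nat_lit 4, nat_lit 3, nat_lit 2, nat_lit 1, nat_lit 0, nat_lit 7, nat_lit 4, nat_lit 7], (nat_lit 526411606), (nat_lit 0)) ::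
  ([nat_lit 1, nat_lit 0, nat_lit 2, nat_lit 3, nat_lit 2, nat_lit 1, nat_lit 4, nat_lit 8], (nat_lit 528789368), (nat_lit 0)) ::
  ([nat_lit 1, nat_lit 0, nat_lit 2, nat_lit 3, nat_lit 2, nat_lit 1, nat_lit 4, nat_lit 3, nat_lit 2, nat_lit 8, nat_lit 6], (nat_lit 529220116), (nat_lit 0)) ::
  clD450
noncomputable def clD350 : List (List ℕ × ℕ × ℕ) :=
  ([nat_lit 1, nat_lit 2, nat_lit 3, nat_lit 2, nat_lit 1, nat_lit 0, nat_lit 4, nat_lit 3, nat_lit 2, nat_lit 1, nat_lit 7, nat_lit 4, nat_lit 7, nat_lit 4], (nat_lit 405226754), (nat_lit 0)) ::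
  ([nat_lit 1, nat_lit 0, nat_lit 2, nat_lit 3, nat_lit 2, nat_lit 1, nat_lit 0, nat_lit 4, nat_lit 3, nat_lit 2, nat_lit 1, nat_lit 0, nat_lit 8, nat_lit 4, nat_lit 6], (nat_lit 407511201), (nat_lit 0)) ::
  ([nat_lit 1, nat_lit 2, nat_lit 3, nat_lit 2, nat_lit 1, nat_lit 4, nat_lit 8], (nat_lit 408047311), (nat_lit 0)) ::
  ([nat_lit 1, nat_lit 2, nat_lit 3, nat_lit 2, nat_lit 4, nat_lit 3, nat_lit 7, nat_lit 4, nat_lit 8, nat_lit 5], (nat_lit 408459300), (nat_lit 0)) ::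
  ([nat_lit 1, nat_lit 0, nat_lit 2, nat_lit 3, nat_lit 2, nat_lit 1, nat_lit 4, nat_lit 3, nat_lit 7], (nat_lit 408561676), (nat_lit 0)) ::
  ([nat_lit 1, nat_lit 2, nat_lit 3, nat_lit 2, nat_lit 4, nat_lit 3, nat_lit 2, nat_lit 8, nat_lit 6], (nat_lit 408957357), (nat_lit 0)) ::
  ([nat_lit 1, nat_lit 0, nat_lit 2, nat_lit 3, nat_lit 2, nat_lit 1, nat_lit 0, nat_lit 4, nat_lit 3, nat_lit 2, nat_lit 7, nat_lit 6], (nat_lit 413579373), (nat_lit 0)) ::
  ([nat_lit 1, nat_lit 2, nat_lit 3, nat_lit 2, nat_lit 4, nat_lit 3, nat_lit 8, nat_lit 6], (nat_lit 415671068), (nat_lit 0)) ::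
  ([nat_lit 1, nat_lit 0, nat_lit 2, nat_lit 3, nat_lit 2, nat_lit 1, nat_lit 4, nat_lit 3, nat_lit 7, nat_lit 6], (nat_lit 417567058), (nat_lit 0)) ::
  ([nat_lit 1, nat_lit 2, nat_lit 3, nat_lit 2, nat_lit 4, nat_lit 3, nat_lit 2, nat_lit 1, nat_lit 7, nat_lit 4, nat_lit 7, nat_lit 4], (nat_lit 417808663), (nat_lit 0)) ::
  ([nat_lit 1, nat_lit 0, nat_lit 2, nat_lit 1, nat_lit 3, nat_lit 2, nat_lit 1, nat_lit 0, nat_lit 4], (nat_lit 418151742), (nat_lit 0)) ::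
  ([nat_lit 1, nat_lit 2, nat_lit 3, nat_lit 2, nat_lit 1, nat_lit 0, nat_lit 4, nat_lit 3, nat_lit 2, nat_lit 7], (nat_lit 418756893), (nat_lit 0)) ::
  ([nat_lit 1, nat_lit 0, nat_lit 2, nat_lit 3, nat_lit 2, nat_lit 1, nat_lit 4, nat_lit 3, nat_lit 2, nat_lit 1, nat_lit 8, nat_lit 4, nat_lit 5], (nat_lit 419556695), (nat_lit 0)) ::
  ([nat_lit 1, nat_lit 0, nat_lit 2, nat_lit 3, nat_lit 2, nat_lit 1, nat_lit 4, nat_lit 3, nat_lit 2, nat_lit 8, nat_lit 4, nat_lit 3, nat_lit 5], (nat_lit 422704116), (nat_lit 0)) ::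
  ([nat_lit 1, nat_lit 0, nat_lit 2, nat_lit 3, nat_lit 2, nat_lit 1, nat_lit 0, nat_lit 4, nat_lit 3, nat_lit 2, nat_lit 1, nat_lit 8, nat_lit 6], (nat_lit 422714716), (nat_lit 0)) ::
  ([nat_lit 1, nat_lit 2, nat_lit 3, nat_lit 2, nat_lit 1, nat_lit 4, nat_lit 3, nat_lit 2, nat_lit 1, nat_lit 0, nat_lit 7, nat_lit 5], (nat_lit 422792201), (nat_lit 0)) ::
  ([nat_lit 1, nat_lit 2, nat_lit 3, nat_lit 2, nat_lit 1, nat_lit 4, nat_lit 3, nat_lit 2, nat_lit 7, nat_lit 4, nat_lit 7, nat_lit 4], (nat_lit 422928943), (nat_lit 0)) ::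
  ([nat_lit 1, nat_lit 2, nat_lit 3, nat_lit 2, nat_lit 1, nat_lit 4, nat_lit 3, nat_lit 8, nat_lit 4, nat_lit 8, nat_lit 5], (nat_lit 423540498), (nat_lit 0)) ::
  ([nat_lit 1, nat_lit 2, nat_lit 3, nat_lit 2, nat_lit 1, nat_lit 4, nat_lit 3, nat_lit 2, nat_lit 7, nat_lit 4, nat_lit 7], (nat_lit 423705864), (nat_lit 0)) ::
  ([nat_lit 1, nat_lit 2, nat_lit 3, nat_lit 2, nat_lit 4, nat_lit 8], (nat_lit 425073523), (nat_lit 0)) ::
  ([nat_lit 1, nat_lit 0, nat_lit 2, nat_lit 3, nat_lit 4, nat_lit 7], (nat_lit 426013275), (nat_lit 0)) ::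
  ([nat_lit 1, nat_lit 0, nat_lit 2, nat_lit 3, nat_lit 2, nat_lit 4, nat_lit 3, nat_lit 7, nat_lit 4, nat_lit 3, nat_lit 7], (nat_lit 427804266), (nat_lit 0)) ::
  ([nat_lit 1, nat_lit 2, nat_lit 3, nat_lit 2, nat_lit 1, nat_lit 0, nat_lit 4, nat_lit 3, nat_lit 8, nat_lit 4, nat_lit 8], (nat_lit 430227372), (nat_lit 0)) ::
  ([nat_lit 1, nat_lit 2, nat_lit 3, nat_lit 2, nat_lit 1, nat_lit 4, nat_lit 3, nat_lit 7, nat_lit 4, nat_lit 6], (nat_lit 430467159), (nat_lit 0)) ::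
  ([nat_lit 1, nat_lit 0, nat_lit 2, nat_lit 3, nat_lit 2, nat_lit 4, nat_lit 3, nat_lit 7, nat_lit 4, nat_lit 3], (nat_lit 430569291), (nat_lit 0)) ::
  ([nat_lit 1, nat_lit 0, nat_lit 2, nat_lit 3, nat_lit 2, nat_lit 1, nat_lit 4, nat_lit 3, nat_lit 2, nat_lit 1, nat_lit 8, nat_lit 4, nat_lit 3, nat_lit 6], (nat_lit 430916557), (nat_lit 0)) ::
  ([nat_lit 1, nat_lit 0, nat_lit 2, nat_lit 3, nat_lit 2, nat_lit 1, nat_lit 0, nat_lit 4, nat_lit 3, nat_lit 7, nat_lit 4, nat_lit 3, nat_lit 7], (nat_lit 435028196), (nat_lit 0)) ::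
  ([nat_lit 1, nat_lit 2, nat_lit 3, nat_lit 2, nat_lit 1, nat_lit 0, nat_lit 4, nat_lit 3, nat_lit 2, nat_lit 1, nat_lit 7, nat_lit 4, nat_lit 6], (nat_lit 435614071), (nat_lit 0)) ::
  ([nat_lit 1, nat_lit 2, nat_lit 3, nat_lit 2, nat_lit 1, nat_lit 4, nat_lit 3, nat_lit 2, nat_lit 7], (nat_lit 436468754), (nat_lit 0)) ::
  ([nat_lit 1, nat_lit 2, nat_lit 3, nat_lit 2, nat_lit 4, nat_lit 3, nat_lit 2, nat_lit 8, nat_lit 4, nat_lit 3, nat_lit 2, nat_lit 5], (nat_lit 438037047), (nat_lit 0)) ::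
  ([nat_lit 1, nat_lit 2, nat_lit 3, nat_lit 2, nat_lit 4, nat_lit 3, nat_lit 2, nat_lit 1, nat_lit 0, nat_lit 7, nat_lit 4, nat_lit 8, nat_lit 8], (nat_lit 438241408), (nat_lit 0)) ::
  ([nat_lit 1, nat_lit 0, nat_lit 2, nat_lit 3, nat_lit 2, nat_lit 4, nat_lit 3, nat_lit 7, nat_lit 4, nat_lit 7, nat_lit 4], (nat_lit 440532037), (nat_lit 0)) ::
  ([nat_lit 1, nat_lit 0, nat_lit 2, nat_lit 3, nat_lit 2, nat_lit 1, nat_lit 0, nat_lit 4, nat_lit 3, nat_lit 2, nat_lit 8, nat_lit 5], (nat_lit 441179853), (nat_lit 0)) ::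
  ([nat_lit 1, nat_lit 2, nat_lit 3, nat_lit 2, nat_lit 4, nat_lit 3, nat_lit 2, nat_lit 8, nat_lit 5], (nat_lit 441536655), (nat_lit 0)) ::
  ([nat_lit 1, nat_lit 2, nat_lit 3, nat_lit 2, nat_lit 1, nat_lit 0, nat_lit 4, nat_lit 3, nat_lit 7, nat_lit 4, nat_lit 3, nat_lit 7], (nat_lit 443422653), (nat_lit 0)) ::
  ([nat_lit 1, nat_lit 2, nat_lit 3, nat_lit 2, nat_lit 1, nat_lit 0, nat_lit 4, nat_lit 3, nat_lit 8, nat_lit 4, nat_lit 8, nat_lit 6], (nat_lit 443429421), (nat_lit 0)) ::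
  ([nat_lit 1, nat_lit 2, nat_lit 3, nat_lit 2, nat_lit 4, nat_lit 3, nat_lit 8, nat_lit 4, nat_lit 8, nat_lit 6], (nat_lit 444796643), (nat_lit 0)) ::
  ([nat_lit 1, nat_lit 0, nat_lit 2, nat_lit 1, nat_lit 3, nat_lit 2, nat_lit 1, nat_lit 0, nat_lit 4, nat_lit 7, nat_lit 6], (nat_lit 444815462), (nat_lit 0)) ::
  ([nat_lit 1, nat_lit 0, nat_lit 2, nat_lit 3, nat_lit 2, nat_lit 4, nat_lit 3, nat_lit 2, nat_lit 8, nat_lit 4, nat_lit 5, nat_lit 7], (nat_lit 445862679), (nat_lit 0)) ::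
  ([nat_lit 1, nat_lit 0, nat_lit 2, nat_lit 3, nat_lit 2, nat_lit 4, nat_lit 3, nat_lit 7, nat_lit 4, nat_lit 6, nat_lit 7], (nat_lit 446918515), (nat_lit 0)) ::
  ([nat_lit 1, nat_lit 2, nat_lit 3, nat_lit 2, nat_lit 1, nat_lit 4, nat_lit 3, nat_lit 2, nat_lit 1, nat_lit 0, nat_lit 8, nat_lit 5], (nat_lit 450116625), (nat_lit 0)) ::
  ([nat_lit 1, nat_lit 0, nat_lit 2, nat_lit 3, nat_lit 2, nat_lit 1, nat_lit 0, nat_lit 4, nat_lit 3, nat_lit 2, nat_lit 1, nat_lit 8], (nat_lit 451100133), (nat_lit 0)) ::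
  ([nat_lit 1, nat_lit 0, nat_lit 2, nat_lit 3, nat_lit 2, nat_lit 4, nat_lit 3, nat_lit 2, nat_lit 8, nat_lit 4, nat_lit 8, nat_lit 4], (nat_lit 454699976), (nat_lit 0)) ::
  ([nat_lit 1, nat_lit 0, nat_lit 2, nat_lit 3, nat_lit 2, nat_lit 4, nat_lit 3, nat_lit 7, nat_lit 5], (nat_lit 456397246), (nat_lit 0)) ::
  ([nat_lit 1, nat_lit 2, nat_lit 3, nat_lit 2, nat_lit 1, nat_lit 0, nat_lit 4, nat_lit 3, nat_lit 2, nat_lit 1, nat_lit 8, nat_lit 4, nat_lit 8, nat_lit 4], (nat_lit 456795549), (nat_lit 0)) ::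
  ([nat_lit 1, nat_lit 2, nat_lit 3, nat_lit 2, nat_lit 4, nat_lit 3, nat_lit 2, nat_lit 1, nat_lit 7, nat_lit 4, nat_lit 7], (nat_lit 456822930), (nat_lit 0)) ::
  ([nat_lit 1, nat_lit 2, nat_lit 3, nat_lit 2, nat_lit 4, nat_lit 3, nat_lit 2, nat_lit 7, nat_lit 4, nat_lit 7, nat_lit 5], (nat_lit 457895340), (nat_lit 0)) ::
  ([nat_lit 1, nat_lit 0, nat_lit 2, nat_lit 3, nat_lit 2, nat_lit 1, nat_lit 4, nat_lit 3, nat_lit 2, nat_lit 1, nat_lit 7], (nat_lit 460198259), (nat_lit 0)) ::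
  ([nat_lit 1, nat_lit 0, nat_lit 2, nat_lit 3, nat_lit 2, nat_lit 1, nat_lit 4, nat_lit 3, nat_lit 2, nat_lit 1, nat_lit 8], (nat_lit 463395332), (nat_lit 0)) ::
  ([nat_lit 1, nat_lit 2, nat_lit 3, nat_lit 2, nat_lit 1, nat_lit 0, nat_lit 4, nat_lit 3, nat_lit 2, nat_lit 1, nat_lit 8, nat_lit 4, nat_lit 7], (nat_lit 464858456), (nat_lit 0)) ::
  clD400
noncomputable def clD300 : List (List ℕ × ℕ × ℕ) :=
  ([nat_lit 1, nat_lit 0, nat_lit 2, nat_lit 3, nat_lit 2, nat_lit 1, nat_lit 4, nat_lit 3, nat_lit 2, nat_lit 7, nat_lit 4, nat_lit 7, nat_lit 5], (nat_lit 343486089), (nat_lit 0)) ::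
  ([nat_lit 1, nat_lit 0, nat_lit 2, nat_lit 3, nat_lit 2, nat_lit 1, nat_lit 4, nat_lit 3, nat_lit 2, nat_lit 8, nat_lit 4, nat_lit 5, nat_lit 7], (nat_lit 345030483), (nat_lit 0)) ::
  ([nat_lit 1, nat_lit 0, nat_lit 2, nat_lit 1, nat_lit 3, nat_lit 2, nat_lit 1, nat_lit 4, nat_lit 7], (nat_lit 345234535), (nat_lit 0)) ::
  ([nat_lit 1, nat_lit 0, nat_lit 2, nat_lit 3, nat_lit 2, nat_lit 4, nat_lit 3, nat_lit 2, nat_lit 1, nat_lit 0], (nat_lit 345729812), (nat_lit 0)) ::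
  ([nat_lit 1, nat_lit 2, nat_lit 3, nat_lit 2, nat_lit 4, nat_lit 3, nat_lit 2, nat_lit 7, nat_lit 4, nat_lit 3, nat_lit 2, nat_lit 7, nat_lit 4], (nat_lit 346940736), (nat_lit 0)) ::
  ([nat_lit 1, nat_lit 0, nat_lit 2], (nat_lit 347141369), (nat_lit 0)) ::
  ([nat_lit 1, nat_lit 0, nat_lit 2, nat_lit 3, nat_lit 2, nat_lit 4, nat_lit 3], (nat_lit 349190106), (nat_lit 0)) ::
  ([nat_lit 1, nat_lit 2, nat_lit 3, nat_lit 2, nat_lit 4, nat_lit 3, nat_lit 2, nat_lit 7, nat_lit 4, nat_lit 3, nat_lit 2, nat_lit 1, nat_lit 6, nat_lit 7], (nat_lit 349272006), (nat_lit 0)) ::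
  ([nat_lit 1, nat_lit 0, nat_lit 2, nat_lit 3, nat_lit 2, nat_lit 4, nat_lit 3, nat_lit 2, nat_lit 1, nat_lit 8, nat_lit 4, nat_lit 3, nat_lit 2, nat_lit 3], (nat_lit 350907360), (nat_lit 0)) ::
  ([nat_lit 1, nat_lit 0, nat_lit 2, nat_lit 3, nat_lit 2, nat_lit 4, nat_lit 3, nat_lit 2, nat_lit 1, nat_lit 0, nat_lit 8, nat_lit 6], (nat_lit 351959029), (nat_lit 0)) ::
  ([nat_lit 1, nat_lit 2, nat_lit 3, nat_lit 2, nat_lit 4, nat_lit 3, nat_lit 2, nat_lit 7, nat_lit 4, nat_lit 7], (nat_lit 353999139), (nat_lit 0)) ::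
  ([nat_lit 1, nat_lit 0, nat_lit 2, nat_lit 3, nat_lit 2, nat_lit 1, nat_lit 4, nat_lit 3, nat_lit 2, nat_lit 7], (nat_lit 354611839), (nat_lit 0)) ::
  ([nat_lit 1, nat_lit 0, nat_lit 2, nat_lit 3, nat_lit 2, nat_lit 1, nat_lit 4, nat_lit 8, nat_lit 5], (nat_lit 355216641), (nat_lit 0)) ::
  ([nat_lit 1, nat_lit 2, nat_lit 3, nat_lit 2, nat_lit 1, nat_lit 4, nat_lit 3, nat_lit 2, nat_lit 1, nat_lit 8, nat_lit 6], (nat_lit 355301622), (nat_lit 0)) ::
  ([nat_lit 1, nat_lit 2, nat_lit 3, nat_lit 2, nat_lit 1, nat_lit 4, nat_lit 3, nat_lit 7, nat_lit 6], (nat_lit 356623465), (nat_lit 0)) ::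
  ([nat_lit 1, nat_lit 2, nat_lit 3, nat_lit 2, nat_lit 4, nat_lit 7, nat_lit 4], (nat_lit 356644328), (nat_lit 0)) ::
  ([nat_lit 1, nat_lit 2, nat_lit 3, nat_lit 2, nat_lit 4, nat_lit 3, nat_lit 2, nat_lit 8, nat_lit 4, nat_lit 3, nat_lit 2, nat_lit 8], (nat_lit 357015737), (nat_lit 0)) ::
  ([nat_lit 1, nat_lit 0, nat_lit 2, nat_lit 3, nat_lit 2, nat_lit 1, nat_lit 0, nat_lit 4, nat_lit 3, nat_lit 8, nat_lit 4], (nat_lit 357308425), (nat_lit 0)) ::
  ([nat_lit 1, nat_lit 2, nat_lit 3, nat_lit 2, nat_lit 4, nat_lit 3, nat_lit 2, nat_lit 1, nat_lit 0, nat_lit 8, nat_lit 4], (nat_lit 358097638), (nat_lit 0)) ::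
  ([nat_lit 1, nat_lit 0, nat_lit 2, nat_lit 1, nat_lit 3, nat_lit 2, nat_lit 1, nat_lit 4], (nat_lit 358283140), (nat_lit 0)) ::
  ([nat_lit 1, nat_lit 2, nat_lit 3, nat_lit 2, nat_lit 4, nat_lit 3, nat_lit 2, nat_lit 8, nat_lit 4, nat_lit 6, nat_lit 7], (nat_lit 358696115), (nat_lit 0)) ::
  ([nat_lit 1, nat_lit 2, nat_lit 3, nat_lit 2, nat_lit 4, nat_lit 3, nat_lit 7, nat_lit 4, nat_lit 5], (nat_lit 359921115), (nat_lit 0)) ::
  ([nat_lit 1, nat_lit 2, nat_lit 3, nat_lit 2, nat_lit 1, nat_lit 4, nat_lit 3, nat_lit 2, nat_lit 1, nat_lit 7, nat_lit 4], (nat_lit 360681830), (nat_lit 0)) ::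
  ([nat_lit 1, nat_lit 2, nat_lit 3, nat_lit 2, nat_lit 1, nat_lit 4, nat_lit 3, nat_lit 2, nat_lit 1, nat_lit 0, nat_lit 7, nat_lit 4, nat_lit 8], (nat_lit 362116792), (nat_lit 0)) ::
  ([nat_lit 1, nat_lit 0, nat_lit 2, nat_lit 3, nat_lit 2, nat_lit 4, nat_lit 3, nat_lit 2, nat_lit 1, nat_lit 8, nat_lit 4, nat_lit 3, nat_lit 6], (nat_lit 362685075), (nat_lit 0)) ::
  ([nat_lit 1, nat_lit 0, nat_lit 2, nat_lit 3, nat_lit 2, nat_lit 1, nat_lit 4, nat_lit 3, nat_lit 8], (nat_lit 363079990), (nat_lit 0)) ::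
  ([nat_lit 1, nat_lit 2, nat_lit 3, nat_lit 2, nat_lit 4, nat_lit 3, nat_lit 2, nat_lit 1, nat_lit 7, nat_lit 4, nat_lit 3, nat_lit 6], (nat_lit 364254236), (nat_lit 0)) ::
  ([nat_lit 1, nat_lit 2, nat_lit 3, nat_lit 2, nat_lit 1, nat_lit 4, nat_lit 3], (nat_lit 365880546), (nat_lit 0)) ::
  ([nat_lit 1, nat_lit 0, nat_lit 2, nat_lit 3, nat_lit 2, nat_lit 1, nat_lit 4, nat_lit 3, nat_lit 2, nat_lit 1, nat_lit 0, nat_lit 8, nat_lit 5], (nat_lit 365904062), (nat_lit 0)) ::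
  ([nat_lit 1, nat_lit 0, nat_lit 2, nat_lit 3, nat_lit 2, nat_lit 1, nat_lit 0, nat_lit 4, nat_lit 3, nat_lit 2, nat_lit 1, nat_lit 0, nat_lit 7, nat_lit 6], (nat_lit 367822797), (nat_lit 0)) ::
  ([nat_lit 1, nat_lit 2, nat_lit 3, nat_lit 2, nat_lit 4, nat_lit 3, nat_lit 2, nat_lit 1, nat_lit 0, nat_lit 7, nat_lit 4, nat_lit 3], (nat_lit 368669174), (nat_lit 0)) ::
  ([nat_lit 1, nat_lit 2, nat_lit 3, nat_lit 2, nat_lit 4, nat_lit 3, nat_lit 7, nat_lit 4, nat_lit 6], (nat_lit 368777456), (nat_lit 0)) ::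
  ([nat_lit 1, nat_lit 0, nat_lit 2, nat_lit 3, nat_lit 2, nat_lit 1, nat_lit 4, nat_lit 3, nat_lit 2, nat_lit 7, nat_lit 4, nat_lit 3, nat_lit 6], (nat_lit 374742588), (nat_lit 0)) ::
  ([nat_lit 1, nat_lit 2, nat_lit 3, nat_lit 2, nat_lit 1, nat_lit 4, nat_lit 3, nat_lit 7, nat_lit 4, nat_lit 7], (nat_lit 379613158), (nat_lit 0)) ::
  ([nat_lit 1, nat_lit 2, nat_lit 3, nat_lit 2, nat_lit 1, nat_lit 0, nat_lit 4, nat_lit 3, nat_lit 2, nat_lit 1, nat_lit 3, nat_lit 8, nat_lit 6], (nat_lit 380412781), (nat_lit 0)) ::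
  ([nat_lit 1, nat_lit 0, nat_lit 2, nat_lit 1, nat_lit 3, nat_lit 4], (nat_lit 381716860), (nat_lit 0)) ::
  ([nat_lit 1, nat_lit 2, nat_lit 3, nat_lit 2, nat_lit 1, nat_lit 4, nat_lit 3, nat_lit 2, nat_lit 1, nat_lit 3, nat_lit 2, nat_lit 7], (nat_lit 382707618), (nat_lit 0)) ::
  ([nat_lit 1, nat_lit 2, nat_lit 3, nat_lit 2, nat_lit 4, nat_lit 3, nat_lit 2, nat_lit 8, nat_lit 4, nat_lit 8, nat_lit 4, nat_lit 3, nat_lit 2], (nat_lit 383758363), (nat_lit 0)) ::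
  ([nat_lit 1, nat_lit 0, nat_lit 2, nat_lit 3, nat_lit 2, nat_lit 1, nat_lit 4, nat_lit 3, nat_lit 2, nat_lit 1, nat_lit 0, nat_lit 8, nat_lit 4, nat_lit 7], (nat_lit 383798867), (nat_lit 0)) ::
  ([nat_lit 1, nat_lit 2, nat_lit 3, nat_lit 2, nat_lit 1, nat_lit 0, nat_lit 4, nat_lit 3, nat_lit 2, nat_lit 8, nat_lit 4, nat_lit 8], (nat_lit 386879358), (nat_lit 0)) ::
  ([nat_lit 1, nat_lit 0, nat_lit 2, nat_lit 3, nat_lit 2, nat_lit 1, nat_lit 4, nat_lit 3, nat_lit 7, nat_lit 4], (nat_lit 387696794), (nat_lit 0)) ::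
  ([nat_lit 1, nat_lit 2, nat_lit 3, nat_lit 2, nat_lit 1, nat_lit 0, nat_lit 4, nat_lit 3, nat_lit 8, nat_lit 6], (nat_lit 388560947), (nat_lit 0)) ::
  ([nat_lit 1, nat_lit 2, nat_lit 3, nat_lit 2, nat_lit 1, nat_lit 4, nat_lit 3, nat_lit 2, nat_lit 1, nat_lit 7, nat_lit 4, nat_lit 7, nat_lit 5], (nat_lit 389939224), (nat_lit 0)) ::
  ([nat_lit 1, nat_lit 0, nat_lit 2, nat_lit 3, nat_lit 2, nat_lit 1, nat_lit 0, nat_lit 4, nat_lit 3, nat_lit 2, nat_lit 1, nat_lit 8, nat_lit 4, nat_lit 7], (nat_lit 391980458), (nat_lit 0)) ::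
  ([nat_lit 1, nat_lit 2, nat_lit 3, nat_lit 2, nat_lit 4, nat_lit 3, nat_lit 2, nat_lit 1, nat_lit 7, nat_lit 4, nat_lit 3, nat_lit 2, nat_lit 3], (nat_lit 393146237), (nat_lit 0)) ::
  ([nat_lit 1, nat_lit 0, nat_lit 2, nat_lit 3, nat_lit 2, nat_lit 1, nat_lit 4, nat_lit 3, nat_lit 7, nat_lit 4, nat_lit 3], (nat_lit 396740424), (nat_lit 0)) ::
  ([nat_lit 1, nat_lit 2, nat_lit 3, nat_lit 2, nat_lit 4, nat_lit 3, nat_lit 2, nat_lit 7, nat_lit 4, nat_lit 7, nat_lit 4, nat_lit 3, nat_lit 2], (nat_lit 398813746), (nat_lit 0)) ::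
  ([nat_lit 1, nat_lit 2, nat_lit 3, nat_lit 2, nat_lit 1, nat_lit 4, nat_lit 3, nat_lit 2, nat_lit 1, nat_lit 7, nat_lit 4, nat_lit 5, nat_lit 8], (nat_lit 402904807), (nat_lit 0)) ::
  ([nat_lit 1, nat_lit 2, nat_lit 3, nat_lit 2, nat_lit 1, nat_lit 4, nat_lit 3, nat_lit 2, nat_lit 1, nat_lit 8, nat_lit 4], (nat_lit 403739683), (nat_lit 0)) ::
  ([nat_lit 1, nat_lit 0, nat_lit 2, nat_lit 3, nat_lit 2, nat_lit 1, nat_lit 4, nat_lit 3, nat_lit 2, nat_lit 8, nat_lit 4, nat_lit 6], (nat_lit 405199405), (nat_lit 0)) ::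
  clD350
noncomputable def clD250 : List (List ℕ × ℕ × ℕ) :=
  ([nat_lit 1, nat_lit 0, nat_lit 2, nat_lit 1, nat_lit 3, nat_lit 2, nat_lit 1, nat_lit 0, nat_lit 4, nat_lit 8], (nat_lit 279348568), (nat_lit 0)) ::
  ([nat_lit 1, nat_lit 2, nat_lit 3, nat_lit 2, nat_lit 4, nat_lit 3, nat_lit 2, nat_lit 7, nat_lit 4, nat_lit 7, nat_lit 4, nat_lit 3, nat_lit 2, nat_lit 1], (nat_lit 279495819), (nat_lit 0)) ::
  ([nat_lit 1, nat_lit 2, nat_lit 3, nat_lit 2, nat_lit 4, nat_lit 3, nat_lit 2, nat_lit 1, nat_lit 8, nat_lit 4, nat_lit 8, nat_lit 6], (nat_lit 284204897), (nat_lit 0)) ::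
  ([nat_lit 1, nat_lit 2, nat_lit 3, nat_lit 2, nat_lit 1, nat_lit 4, nat_lit 3, nat_lit 2, nat_lit 7, nat_lit 5], (nat_lit 284328471), (nat_lit 0)) ::
  ([nat_lit 1, nat_lit 0, nat_lit 2, nat_lit 3, nat_lit 2, nat_lit 4, nat_lit 3, nat_lit 2, nat_lit 7, nat_lit 4, nat_lit 8], (nat_lit 285049629), (nat_lit 0)) ::
  ([nat_lit 1, nat_lit 2, nat_lit 3, nat_lit 2, nat_lit 1, nat_lit 0, nat_lit 4, nat_lit 3, nat_lit 2, nat_lit 1, nat_lit 3, nat_lit 7], (nat_lit 286507026), (nat_lit 0)) ::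
  ([nat_lit 1, nat_lit 2, nat_lit 3, nat_lit 2, nat_lit 1, nat_lit 0, nat_lit 4, nat_lit 3, nat_lit 2, nat_lit 1, nat_lit 3, nat_lit 7, nat_lit 5], (nat_lit 287685085), (nat_lit 0)) ::
  ([nat_lit 1, nat_lit 2, nat_lit 3, nat_lit 2, nat_lit 1, nat_lit 0, nat_lit 4, nat_lit 3, nat_lit 8, nat_lit 4, nat_lit 7], (nat_lit 288034091), (nat_lit 0)) ::
  ([nat_lit 1, nat_lit 0, nat_lit 2, nat_lit 3, nat_lit 2, nat_lit 1, nat_lit 0, nat_lit 4, nat_lit 3, nat_lit 2, nat_lit 1, nat_lit 7, nat_lit 6], (nat_lit 288156524), (nat_lit 0)) ::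
  ([nat_lit 1, nat_lit 2, nat_lit 3, nat_lit 2, nat_lit 4, nat_lit 3, nat_lit 2, nat_lit 7, nat_lit 4, nat_lit 3, nat_lit 5, nat_lit 7], (nat_lit 289147906), (nat_lit 0)) ::
  ([nat_lit 1, nat_lit 2, nat_lit 3, nat_lit 2, nat_lit 4, nat_lit 3, nat_lit 2, nat_lit 7, nat_lit 4, nat_lit 3, nat_lit 6], (nat_lit 289740831), (nat_lit 0)) ::
  ([nat_lit 1, nat_lit 2, nat_lit 3, nat_lit 2, nat_lit 4, nat_lit 3, nat_lit 7, nat_lit 5], (nat_lit 290577508), (nat_lit 0)) ::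
  ([nat_lit 1, nat_lit 0, nat_lit 2, nat_lit 3, nat_lit 2, nat_lit 1, nat_lit 0, nat_lit 4, nat_lit 7, nat_lit 5], (nat_lit 291368776), (nat_lit 0)) ::
  ([nat_lit 1, nat_lit 2, nat_lit 3, nat_lit 2, nat_lit 4, nat_lit 3, nat_lit 2, nat_lit 1, nat_lit 7, nat_lit 4, nat_lit 6], (nat_lit 291565212), (nat_lit 0)) ::
  ([nat_lit 1, nat_lit 0, nat_lit 2, nat_lit 3, nat_lit 2, nat_lit 1, nat_lit 0, nat_lit 4, nat_lit 3, nat_lit 2, nat_lit 1, nat_lit 7, nat_lit 4, nat_lit 7, nat_lit 5], (nat_lit 291774612), (nat_lit 0)) ::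
  ([nat_lit 1, nat_lit 2, nat_lit 3, nat_lit 2, nat_lit 4, nat_lit 3, nat_lit 2, nat_lit 8, nat_lit 4, nat_lit 5], (nat_lit 292215640), (nat_lit 0)) ::
  ([nat_lit 1, nat_lit 2, nat_lit 3, nat_lit 2, nat_lit 1, nat_lit 0, nat_lit 4, nat_lit 3, nat_lit 2, nat_lit 1, nat_lit 7, nat_lit 4, nat_lit 8], (nat_lit 292318098), (nat_lit 0)) ::
  ([nat_lit 1, nat_lit 2, nat_lit 3, nat_lit 2, nat_lit 1, nat_lit 4, nat_lit 3, nat_lit 2, nat_lit 1, nat_lit 0, nat_lit 3, nat_lit 7, nat_lit 6], (nat_lit 293018124), (nat_lit 0)) ::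
  ([nat_lit 1, nat_lit 0, nat_lit 2, nat_lit 3, nat_lit 2, nat_lit 1, nat_lit 0, nat_lit 4, nat_lit 3, nat_lit 2, nat_lit 7, nat_lit 4, nat_lit 5], (nat_lit 295534693), (nat_lit 0)) ::
  ([nat_lit 1, nat_lit 0, nat_lit 2, nat_lit 3, nat_lit 2, nat_lit 1, nat_lit 4, nat_lit 3, nat_lit 8, nat_lit 4, nat_lit 7], (nat_lit 297148505), (nat_lit 0)) ::
  ([nat_lit 1, nat_lit 0, nat_lit 2, nat_lit 3, nat_lit 2, nat_lit 4, nat_lit 3, nat_lit 2, nat_lit 1, nat_lit 8, nat_lit 4, nat_lit 3], (nat_lit 300116880), (nat_lit 0)) ::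
  ([nat_lit 1, nat_lit 2, nat_lit 3, nat_lit 2, nat_lit 1, nat_lit 0, nat_lit 4, nat_lit 3, nat_lit 2, nat_lit 1, nat_lit 8, nat_lit 4], (nat_lit 300560100), (nat_lit 0)) ::
  ([nat_lit 1, nat_lit 2, nat_lit 3, nat_lit 2, nat_lit 1, nat_lit 4, nat_lit 3, nat_lit 2, nat_lit 1, nat_lit 0, nat_lit 8, nat_lit 4], (nat_lit 300595355), (nat_lit 0)) ::
  ([nat_lit 1, nat_lit 0, nat_lit 2, nat_lit 1, nat_lit 3, nat_lit 4, nat_lit 7, nat_lit 5], (nat_lit 302314481), (nat_lit 0)) ::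
  ([nat_lit 1, nat_lit 2, nat_lit 3, nat_lit 2, nat_lit 1, nat_lit 4, nat_lit 3, nat_lit 2, nat_lit 3, nat_lit 8, nat_lit 5], (nat_lit 307219215), (nat_lit 0)) ::
  ([nat_lit 1, nat_lit 2, nat_lit 3, nat_lit 2, nat_lit 1, nat_lit 4, nat_lit 3, nat_lit 2, nat_lit 1, nat_lit 0, nat_lit 7], (nat_lit 307670423), (nat_lit 0)) ::
  ([nat_lit 1, nat_lit 0, nat_lit 2, nat_lit 1, nat_lit 3, nat_lit 2, nat_lit 4, nat_lit 8], (nat_lit 309094298), (nat_lit 0)) ::
  ([nat_lit 1, nat_lit 2, nat_lit 3, nat_lit 2, nat_lit 4, nat_lit 3, nat_lit 2, nat_lit 7, nat_lit 4, nat_lit 3, nat_lit 2, nat_lit 3], (nat_lit 312951163), (nat_lit 0)) ::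
  ([nat_lit 1, nat_lit 0, nat_lit 2, nat_lit 3, nat_lit 2, nat_lit 4, nat_lit 3, nat_lit 2, nat_lit 1, nat_lit 8, nat_lit 4, nat_lit 3, nat_lit 2, nat_lit 1, nat_lit 6], (nat_lit 318458586), (nat_lit 0)) ::
  ([nat_lit 1, nat_lit 0, nat_lit 2, nat_lit 3, nat_lit 2, nat_lit 4, nat_lit 3, nat_lit 7, nat_lit 4], (nat_lit 320032166), (nat_lit 0)) ::
  ([nat_lit 1, nat_lit 2, nat_lit 3, nat_lit 2, nat_lit 1, nat_lit 4, nat_lit 3, nat_lit 2, nat_lit 3, nat_lit 7], (nat_lit 320712523), (nat_lit 0)) ::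
  ([nat_lit 1, nat_lit 0, nat_lit 2, nat_lit 3, nat_lit 2, nat_lit 4, nat_lit 3, nat_lit 2, nat_lit 8, nat_lit 4, nat_lit 3, nat_lit 2, nat_lit 1, nat_lit 8], (nat_lit 321535317), (nat_lit 0)) ::
  ([nat_lit 1, nat_lit 2, nat_lit 3, nat_lit 2, nat_lit 1, nat_lit 0, nat_lit 4, nat_lit 3, nat_lit 7, nat_lit 4, nat_lit 5, nat_lit 8], (nat_lit 323369532), (nat_lit 0)) ::
  ([nat_lit 1, nat_lit 0, nat_lit 2, nat_lit 1, nat_lit 3, nat_lit 2, nat_lit 1, nat_lit 0], (nat_lit 327476487), (nat_lit 0)) ::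
  ([nat_lit 1, nat_lit 2, nat_lit 3, nat_lit 2, nat_lit 1, nat_lit 4, nat_lit 3, nat_lit 2, nat_lit 7, nat_lit 4, nat_lit 6, nat_lit 7], (nat_lit 327511875), (nat_lit 0)) ::
  ([nat_lit 1, nat_lit 0, nat_lit 2, nat_lit 3, nat_lit 2, nat_lit 4, nat_lit 3, nat_lit 2, nat_lit 1, nat_lit 8, nat_lit 4, nat_lit 8], (nat_lit 327517937), (nat_lit 0)) ::
  ([nat_lit 1, nat_lit 2, nat_lit 3, nat_lit 2, nat_lit 1, nat_lit 0, nat_lit 4, nat_lit 3, nat_lit 2, nat_lit 1, nat_lit 7, nat_lit 4, nat_lit 7, nat_lit 5], (nat_lit 328211851), (nat_lit 0)) ::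
  ([nat_lit 1, nat_lit 2, nat_lit 3, nat_lit 2, nat_lit 1, nat_lit 0, nat_lit 4, nat_lit 3, nat_lit 2, nat_lit 7, nat_lit 4, nat_lit 6, nat_lit 8], (nat_lit 328765804), (nat_lit 0)) ::
  ([nat_lit 1, nat_lit 0, nat_lit 2, nat_lit 3, nat_lit 2, nat_lit 1, nat_lit 0, nat_lit 4, nat_lit 3, nat_lit 7, nat_lit 4, nat_lit 7, nat_lit 5], (nat_lit 329367981), (nat_lit 0)) ::
  ([nat_lit 1, nat_lit 0, nat_lit 2, nat_lit 3, nat_lit 2, nat_lit 1, nat_lit 0, nat_lit 4, nat_lit 3, nat_lit 2, nat_lit 1, nat_lit 7, nat_lit 5], (nat_lit 330822115), (nat_lit 0)) ::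
  ([nat_lit 1, nat_lit 0, nat_lit 2, nat_lit 3, nat_lit 2, nat_lit 1, nat_lit 4, nat_lit 3, nat_lit 2, nat_lit 1, nat_lit 0, nat_lit 7, nat_lit 6], (nat_lit 331713359), (nat_lit 0)) ::
  ([nat_lit 1, nat_lit 2, nat_lit 3, nat_lit 2, nat_lit 4, nat_lit 3, nat_lit 2, nat_lit 8, nat_lit 4], (nat_lit 332025166), (nat_lit 0)) ::
  ([nat_lit 1, nat_lit 2, nat_lit 3, nat_lit 2, nat_lit 1, nat_lit 0, nat_lit 4, nat_lit 3, nat_lit 2, nat_lit 7, nat_lit 4, nat_lit 6, nat_lit 7], (nat_lit 332415664), (nat_lit 0)) ::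
  ([nat_lit 1, nat_lit 2, nat_lit 3, nat_lit 2, nat_lit 4, nat_lit 7, nat_lit 6], (nat_lit 332690225), (nat_lit 0)) ::
  ([nat_lit 1, nat_lit 0, nat_lit 2, nat_lit 3, nat_lit 2, nat_lit 1, nat_lit 0, nat_lit 4], (nat_lit 332753424), (nat_lit 0)) ::
  ([nat_lit 1, nat_lit 0, nat_lit 2, nat_lit 3, nat_lit 2, nat_lit 4, nat_lit 3, nat_lit 2, nat_lit 8, nat_lit 4, nat_lit 3, nat_lit 2, nat_lit 8], (nat_lit 334253453), (nat_lit 0)) ::
  ([nat_lit 1, nat_lit 2, nat_lit 3, nat_lit 2, nat_lit 1, nat_lit 4, nat_lit 3, nat_lit 2, nat_lit 1, nat_lit 8, nat_lit 4, nat_lit 8, nat_lit 4, nat_lit 3], (nat_lit 335772350), (nat_lit 0)) ::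
  ([nat_lit 1, nat_lit 2, nat_lit 3, nat_lit 2, nat_lit 1, nat_lit 4, nat_lit 3, nat_lit 2, nat_lit 8, nat_lit 4], (nat_lit 336593873), (nat_lit 0)) ::
  ([nat_lit 1, nat_lit 2, nat_lit 3, nat_lit 2, nat_lit 1, nat_lit 0, nat_lit 4, nat_lit 3, nat_lit 2, nat_lit 7, nat_lit 4, nat_lit 7, nat_lit 4], (nat_lit 337575947), (nat_lit 0)) ::
  ([nat_lit 1, nat_lit 0, nat_lit 2, nat_lit 3, nat_lit 2, nat_lit 4, nat_lit 3, nat_lit 7, nat_lit 4, nat_lit 7], (nat_lit 340608993), (nat_lit 0)) ::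
  clD300
noncomputable def clD200 : List (List ℕ × ℕ × ℕ) :=
  ([nat_lit 1, nat_lit 2, nat_lit 3, nat_lit 2, nat_lit 1, nat_lit 4, nat_lit 3, nat_lit 7], (nat_lit 225355932), (nat_lit 0)) ::
  ([nat_lit 1, nat_lit 2, nat_lit 3, nat_lit 2, nat_lit 1, nat_lit 4, nat_lit 3, nat_lit 7, nat_lit 4], (nat_lit 226768681), (nat_lit 0)) ::
  ([nat_lit 1, nat_lit 2, nat_lit 3, nat_lit 2, nat_lit 1, nat_lit 4, nat_lit 3, nat_lit 2, nat_lit 8, nat_lit 6], (nat_lit 226864875), (nat_lit 0)) ::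
  ([nat_lit 1, nat_lit 2, nat_lit 3, nat_lit 2, nat_lit 4, nat_lit 3, nat_lit 2, nat_lit 1, nat_lit 7, nat_lit 4, nat_lit 3, nat_lit 2, nat_lit 1, nat_lit 8], (nat_lit 228775703), (nat_lit 0)) ::
  ([nat_lit 1, nat_lit 0, nat_lit 2, nat_lit 3, nat_lit 2, nat_lit 4, nat_lit 3, nat_lit 8], (nat_lit 230318093), (nat_lit 0)) ::
  ([nat_lit 1, nat_lit 2, nat_lit 3, nat_lit 2, nat_lit 4, nat_lit 3, nat_lit 2, nat_lit 1, nat_lit 7, nat_lit 4, nat_lit 7, nat_lit 5], (nat_lit 231866441), (nat_lit 0)) ::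
  ([nat_lit 1, nat_lit 2, nat_lit 3, nat_lit 2, nat_lit 1, nat_lit 4, nat_lit 3, nat_lit 2, nat_lit 1, nat_lit 0, nat_lit 7, nat_lit 4, nat_lit 8, nat_lit 8], (nat_lit 234787029), (nat_lit 0)) ::
  ([nat_lit 1, nat_lit 2, nat_lit 3, nat_lit 2, nat_lit 4, nat_lit 3, nat_lit 2, nat_lit 1, nat_lit 7, nat_lit 4, nat_lit 3, nat_lit 2, nat_lit 7], (nat_lit 235376344), (nat_lit 0)) ::
  ([nat_lit 1, nat_lit 2, nat_lit 3, nat_lit 2, nat_lit 1, nat_lit 0, nat_lit 4, nat_lit 3, nat_lit 2, nat_lit 8, nat_lit 4, nat_lit 5], (nat_lit 236605535), (nat_lit 0)) ::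
  ([nat_lit 1, nat_lit 2, nat_lit 3, nat_lit 2, nat_lit 1, nat_lit 4, nat_lit 3, nat_lit 2], (nat_lit 238193203), (nat_lit 0)) ::
  ([nat_lit 1, nat_lit 0, nat_lit 2, nat_lit 3, nat_lit 2, nat_lit 1, nat_lit 0, nat_lit 4, nat_lit 3, nat_lit 7, nat_lit 4], (nat_lit 238456775), (nat_lit 0)) ::
  ([nat_lit 1, nat_lit 0, nat_lit 2, nat_lit 3, nat_lit 2, nat_lit 1, nat_lit 4, nat_lit 3, nat_lit 2, nat_lit 1, nat_lit 0, nat_lit 7], (nat_lit 238612700), (nat_lit 0)) ::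
  ([nat_lit 1, nat_lit 2, nat_lit 3, nat_lit 2, nat_lit 1, nat_lit 4, nat_lit 7, nat_lit 6], (nat_lit 240272420), (nat_lit 0)) ::
  ([nat_lit 1, nat_lit 2, nat_lit 3, nat_lit 2, nat_lit 4, nat_lit 3, nat_lit 7, nat_lit 4, nat_lit 8], (nat_lit 241361201), (nat_lit 0)) ::
  ([nat_lit 1, nat_lit 2, nat_lit 3, nat_lit 2, nat_lit 1, nat_lit 0, nat_lit 4, nat_lit 3, nat_lit 8, nat_lit 4, nat_lit 8, nat_lit 8], (nat_lit 242783997), (nat_lit 0)) ::
  ([nat_lit 1, nat_lit 0, nat_lit 2, nat_lit 3, nat_lit 2, nat_lit 1, nat_lit 4, nat_lit 3, nat_lit 2, nat_lit 1, nat_lit 7, nat_lit 4, nat_lit 8], (nat_lit 243196867), (nat_lit 0)) ::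
  ([nat_lit 1, nat_lit 2, nat_lit 3, nat_lit 2, nat_lit 1, nat_lit 4, nat_lit 3, nat_lit 2, nat_lit 1, nat_lit 0, nat_lit 8, nat_lit 4, nat_lit 7], (nat_lit 246437536), (nat_lit 0)) ::
  ([nat_lit 1, nat_lit 0, nat_lit 2, nat_lit 3, nat_lit 2, nat_lit 4, nat_lit 3, nat_lit 2, nat_lit 1, nat_lit 7, nat_lit 4, nat_lit 6], (nat_lit 247154585), (nat_lit 0)) ::
  ([nat_lit 1, nat_lit 2, nat_lit 3, nat_lit 2, nat_lit 1, nat_lit 0, nat_lit 4, nat_lit 3, nat_lit 7, nat_lit 4, nat_lit 6, nat_lit 7], (nat_lit 247341735), (nat_lit 0)) ::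
  ([nat_lit 1, nat_lit 2, nat_lit 3, nat_lit 2, nat_lit 1, nat_lit 4, nat_lit 3, nat_lit 2, nat_lit 1, nat_lit 3, nat_lit 8, nat_lit 6], (nat_lit 247467897), (nat_lit 0)) ::
  ([nat_lit 1, nat_lit 2, nat_lit 3, nat_lit 2, nat_lit 4, nat_lit 3, nat_lit 2, nat_lit 7, nat_lit 4, nat_lit 7, nat_lit 6], (nat_lit 251600069), (nat_lit 0)) ::
  ([nat_lit 1, nat_lit 0, nat_lit 2, nat_lit 1, nat_lit 3, nat_lit 2, nat_lit 4, nat_lit 7], (nat_lit 254774160), (nat_lit 0)) ::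
  ([nat_lit 1, nat_lit 0, nat_lit 2, nat_lit 3, nat_lit 2, nat_lit 4, nat_lit 3, nat_lit 2, nat_lit 7, nat_lit 4, nat_lit 7, nat_lit 4], (nat_lit 258319989), (nat_lit 0)) ::
  ([nat_lit 1, nat_lit 2, nat_lit 3, nat_lit 2, nat_lit 4, nat_lit 3, nat_lit 2, nat_lit 1, nat_lit 7, nat_lit 4, nat_lit 3], (nat_lit 260161378), (nat_lit 0)) ::
  ([nat_lit 1, nat_lit 2, nat_lit 3, nat_lit 2, nat_lit 1, nat_lit 4, nat_lit 3, nat_lit 2, nat_lit 1, nat_lit 0, nat_lit 3, nat_lit 7], (nat_lit 260884797), (nat_lit 0)) ::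
  ([nat_lit 1, nat_lit 2, nat_lit 3, nat_lit 2, nat_lit 1, nat_lit 0, nat_lit 4, nat_lit 3, nat_lit 2, nat_lit 1, nat_lit 0], (nat_lit 261292683), (nat_lit 0)) ::
  ([nat_lit 1, nat_lit 2, nat_lit 3, nat_lit 2, nat_lit 4, nat_lit 3, nat_lit 7, nat_lit 4, nat_lit 6, nat_lit 7], (nat_lit 262580597), (nat_lit 0)) ::
  ([nat_lit 1, nat_lit 2, nat_lit 3, nat_lit 2, nat_lit 4, nat_lit 3, nat_lit 2, nat_lit 7, nat_lit 4, nat_lit 3, nat_lit 2, nat_lit 7, nat_lit 7], (nat_lit 262733907), (nat_lit 0)) ::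
  ([nat_lit 1, nat_lit 2, nat_lit 3, nat_lit 2, nat_lit 1, nat_lit 4, nat_lit 3, nat_lit 8, nat_lit 4, nat_lit 8, nat_lit 8], (nat_lit 263858419), (nat_lit 0)) ::
  ([nat_lit 1, nat_lit 0, nat_lit 2, nat_lit 3, nat_lit 2, nat_lit 1, nat_lit 0, nat_lit 4, nat_lit 3, nat_lit 2, nat_lit 1, nat_lit 7, nat_lit 4, nat_lit 3], (nat_lit 264570434), (nat_lit 0)) ::
  ([nat_lit 1, nat_lit 2, nat_lit 3, nat_lit 2, nat_lit 1, nat_lit 4, nat_lit 3, nat_lit 2, nat_lit 1, nat_lit 3, nat_lit 2, nat_lit 8, nat_lit 5], (nat_lit 264626564), (nat_lit 0)) ::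
  ([nat_lit 1, nat_lit 0, nat_lit 2, nat_lit 3, nat_lit 2, nat_lit 4, nat_lit 3, nat_lit 2, nat_lit 8, nat_lit 4, nat_lit 8], (nat_lit 265423451), (nat_lit 0)) ::
  ([nat_lit 1, nat_lit 0, nat_lit 2, nat_lit 3, nat_lit 2, nat_lit 4, nat_lit 3, nat_lit 2, nat_lit 1, nat_lit 8, nat_lit 5], (nat_lit 267478286), (nat_lit 0)) ::
  ([nat_lit 1, nat_lit 0, nat_lit 2, nat_lit 3, nat_lit 2, nat_lit 4, nat_lit 3, nat_lit 7, nat_lit 4, nat_lit 5], (nat_lit 267867952), (nat_lit 0)) ::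
  ([nat_lit 1, nat_lit 2, nat_lit 3, nat_lit 2, nat_lit 1, nat_lit 4, nat_lit 3, nat_lit 8, nat_lit 4, nat_lit 7, nat_lit 7], (nat_lit 267895683), (nat_lit 0)) ::
  ([nat_lit 1, nat_lit 2, nat_lit 3, nat_lit 2, nat_lit 4, nat_lit 3], (nat_lit 268126283), (nat_lit 0)) ::
  ([nat_lit 1, nat_lit 2, nat_lit 3, nat_lit 2, nat_lit 1, nat_lit 0, nat_lit 4, nat_lit 3, nat_lit 2, nat_lit 8, nat_lit 4, nat_lit 7, nat_lit 6], (nat_lit 268476288), (nat_lit 0)) ::
  ([nat_lit 1, nat_lit 0, nat_lit 2, nat_lit 3, nat_lit 2, nat_lit 4, nat_lit 3, nat_lit 2, nat_lit 8, nat_lit 4, nat_lit 3, nat_lit 2, nat_lit 1, nat_lit 6], (nat_lit 268696140), (nat_lit 0)) ::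
  ([nat_lit 1, nat_lit 2, nat_lit 3, nat_lit 2, nat_lit 1, nat_lit 0, nat_lit 4, nat_lit 3, nat_lit 2, nat_lit 1, nat_lit 0, nat_lit 7, nat_lit 4, nat_lit 5], (nat_lit 269121603), (nat_lit 0)) ::
  ([nat_lit 1, nat_lit 2, nat_lit 3, nat_lit 2, nat_lit 1, nat_lit 4, nat_lit 3, nat_lit 2, nat_lit 7, nat_lit 4, nat_lit 6, nat_lit 8], (nat_lit 269174484), (nat_lit 0)) ::
  ([nat_lit 1, nat_lit 2], (nat_lit 269182175), (nat_lit 0)) ::
  ([nat_lit 1, nat_lit 2, nat_lit 3, nat_lit 2, nat_lit 1, nat_lit 4, nat_lit 3, nat_lit 2, nat_lit 1, nat_lit 7, nat_lit 4, nat_lit 7], (nat_lit 269494120), (nat_lit 0)) ::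
  ([nat_lit 1, nat_lit 0, nat_lit 2, nat_lit 3, nat_lit 2, nat_lit 4, nat_lit 3, nat_lit 2, nat_lit 7, nat_lit 4, nat_lit 6, nat_lit 7], (nat_lit 269766841), (nat_lit 0)) ::
  ([nat_lit 1, nat_lit 0, nat_lit 2, nat_lit 1, nat_lit 3, nat_lit 2, nat_lit 4], (nat_lit 271376881), (nat_lit 0)) ::
  ([nat_lit 1, nat_lit 0, nat_lit 2, nat_lit 3, nat_lit 2, nat_lit 4, nat_lit 3, nat_lit 2, nat_lit 1, nat_lit 8, nat_lit 4, nat_lit 3, nat_lit 2, nat_lit 3, nat_lit 6], (nat_lit 271783406), (nat_lit 0)) ::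
  ([nat_lit 1, nat_lit 0, nat_lit 2, nat_lit 3, nat_lit 2, nat_lit 1, nat_lit 0, nat_lit 4, nat_lit 3, nat_lit 2, nat_lit 7, nat_lit 4, nat_lit 3], (nat_lit 272831725), (nat_lit 0)) ::
  ([nat_lit 1, nat_lit 2, nat_lit 3, nat_lit 2, nat_lit 4, nat_lit 3, nat_lit 2, nat_lit 7, nat_lit 4, nat_lit 3, nat_lit 2, nat_lit 1, nat_lit 7, nat_lit 5], (nat_lit 274939899), (nat_lit 0)) ::
  ([nat_lit 1, nat_lit 2, nat_lit 3, nat_lit 2, nat_lit 4, nat_lit 3, nat_lit 2, nat_lit 7, nat_lit 4, nat_lit 3, nat_lit 2], (nat_lit 275920448), (nat_lit 0)) ::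
  ([nat_lit 1, nat_lit 2, nat_lit 3, nat_lit 2, nat_lit 4, nat_lit 3, nat_lit 2, nat_lit 7, nat_lit 4, nat_lit 3], (nat_lit 276153693), (nat_lit 0)) ::
  ([nat_lit 1, nat_lit 2, nat_lit 3, nat_lit 2, nat_lit 1, nat_lit 4, nat_lit 3, nat_lit 2, nat_lit 1, nat_lit 3, nat_lit 7, nat_lit 5], (nat_lit 277391571), (nat_lit 0)) ::
  clD250
noncomputable def clD150 : List (List ℕ × ℕ × ℕ) :=
  ([nat_lit 1, nat_lit 2, nat_lit 3, nat_lit 2, nat_lit 4, nat_lit 3, nat_lit 7, nat_lit 4, nat_lit 7], (nat_lit 184429074), (nat_lit 0)) ::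
  ([nat_lit 1, nat_lit 2, nat_lit 3, nat_lit 2, nat_lit 4, nat_lit 3, nat_lit 2, nat_lit 7, nat_lit 4, nat_lit 6, nat_lit 7], (nat_lit 186203530), (nat_lit 0)) ::
  ([nat_lit 1, nat_lit 0, nat_lit 2, nat_lit 3, nat_lit 2, nat_lit 4, nat_lit 3, nat_lit 2, nat_lit 1, nat_lit 7], (nat_lit 188364829), (nat_lit 0)) ::
  ([nat_lit 1, nat_lit 2, nat_lit 3, nat_lit 2, nat_lit 1, nat_lit 4, nat_lit 3, nat_lit 7, nat_lit 4, nat_lit 3, nat_lit 7], (nat_lit 188553313), (nat_lit 0)) ::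
  ([nat_lit 1, nat_lit 0, nat_lit 2, nat_lit 3, nat_lit 2, nat_lit 1, nat_lit 4, nat_lit 3, nat_lit 2, nat_lit 1, nat_lit 8, nat_lit 4], (nat_lit 188965975), (nat_lit 0)) ::
  ([nat_lit 1, nat_lit 2, nat_lit 3, nat_lit 2, nat_lit 4, nat_lit 3, nat_lit 2, nat_lit 1, nat_lit 7, nat_lit 4, nat_lit 3, nat_lit 2, nat_lit 3, nat_lit 5], (nat_lit 189368994), (nat_lit 0)) ::
  ([nat_lit 1, nat_lit 2, nat_lit 3, nat_lit 2, nat_lit 4, nat_lit 3, nat_lit 2, nat_lit 1, nat_lit 8, nat_lit 4, nat_lit 8, nat_lit 5], (nat_lit 189378010), (nat_lit 0)) ::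
  ([nat_lit 1, nat_lit 0, nat_lit 2, nat_lit 3, nat_lit 2, nat_lit 1, nat_lit 4, nat_lit 3, nat_lit 8, nat_lit 4, nat_lit 8, nat_lit 4], (nat_lit 190354224), (nat_lit 0)) ::
  ([nat_lit 1, nat_lit 0, nat_lit 2, nat_lit 3, nat_lit 2, nat_lit 1, nat_lit 0, nat_lit 4, nat_lit 7], (nat_lit 191664499), (nat_lit 0)) ::
  ([nat_lit 1, nat_lit 2, nat_lit 3, nat_lit 2, nat_lit 4, nat_lit 3, nat_lit 2, nat_lit 8, nat_lit 4, nat_lit 8], (nat_lit 192052229), (nat_lit 0)) ::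
  ([nat_lit 1, nat_lit 0, nat_lit 2, nat_lit 3, nat_lit 2, nat_lit 4, nat_lit 3, nat_lit 2, nat_lit 8, nat_lit 4, nat_lit 3, nat_lit 6], (nat_lit 197844390), (nat_lit 0)) ::
  ([nat_lit 1, nat_lit 0, nat_lit 2, nat_lit 3, nat_lit 2, nat_lit 4, nat_lit 3, nat_lit 2, nat_lit 1, nat_lit 8, nat_lit 4, nat_lit 3, nat_lit 2], (nat_lit 197950528), (nat_lit 0)) ::
  ([nat_lit 1, nat_lit 2, nat_lit 3, nat_lit 2, nat_lit 1, nat_lit 4, nat_lit 3, nat_lit 8, nat_lit 4, nat_lit 7], (nat_lit 199348199), (nat_lit 0)) ::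
  ([nat_lit 1, nat_lit 2, nat_lit 3, nat_lit 2, nat_lit 4, nat_lit 3, nat_lit 8, nat_lit 4, nat_lit 8, nat_lit 4], (nat_lit 200246683), (nat_lit 0)) ::
  ([nat_lit 1, nat_lit 0, nat_lit 2, nat_lit 3, nat_lit 2, nat_lit 1, nat_lit 4, nat_lit 3, nat_lit 2, nat_lit 1, nat_lit 7, nat_lit 6], (nat_lit 200543360), (nat_lit 0)) ::
  ([nat_lit 1, nat_lit 2, nat_lit 3, nat_lit 2, nat_lit 1, nat_lit 4, nat_lit 3, nat_lit 2, nat_lit 8, nat_lit 4, nat_lit 7, nat_lit 6], (nat_lit 200547330), (nat_lit 0)) ::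
  ([nat_lit 1, nat_lit 2, nat_lit 3, nat_lit 2, nat_lit 4, nat_lit 3, nat_lit 8, nat_lit 5], (nat_lit 201138851), (nat_lit 0)) ::
  ([nat_lit 1, nat_lit 2, nat_lit 3, nat_lit 2, nat_lit 4, nat_lit 3, nat_lit 2, nat_lit 7, nat_lit 4, nat_lit 3, nat_lit 2, nat_lit 6, nat_lit 7], (nat_lit 201167019), (nat_lit 0)) ::
  ([nat_lit 1, nat_lit 0, nat_lit 2, nat_lit 3, nat_lit 2, nat_lit 1, nat_lit 0, nat_lit 4, nat_lit 3, nat_lit 7, nat_lit 4, nat_lit 7], (nat_lit 202040991), (nat_lit 0)) ::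
  ([nat_lit 1, nat_lit 2, nat_lit 3, nat_lit 2, nat_lit 4, nat_lit 3, nat_lit 2, nat_lit 1, nat_lit 0, nat_lit 7, nat_lit 4, nat_lit 8, nat_lit 5], (nat_lit 202331988), (nat_lit 0)) ::
  ([nat_lit 1, nat_lit 2, nat_lit 3, nat_lit 2, nat_lit 1, nat_lit 4, nat_lit 3, nat_lit 2, nat_lit 1, nat_lit 8, nat_lit 4, nat_lit 7, nat_lit 6], (nat_lit 202701469), (nat_lit 0)) ::
  ([nat_lit 1, nat_lit 2, nat_lit 3, nat_lit 2, nat_lit 1, nat_lit 4, nat_lit 7], (nat_lit 203977067), (nat_lit 0)) ::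
  ([nat_lit 1, nat_lit 2, nat_lit 3, nat_lit 2, nat_lit 1, nat_lit 0, nat_lit 4, nat_lit 3, nat_lit 2, nat_lit 1, nat_lit 0, nat_lit 8, nat_lit 4], (nat_lit 204361138), (nat_lit 0)) ::
  ([nat_lit 1, nat_lit 0, nat_lit 2, nat_lit 3, nat_lit 2, nat_lit 1, nat_lit 0, nat_lit 4, nat_lit 3, nat_lit 7, nat_lit 4, nat_lit 7, nat_lit 4], (nat_lit 204796851), (nat_lit 0)) ::
  ([nat_lit 1, nat_lit 2, nat_lit 3, nat_lit 2, nat_lit 4, nat_lit 3, nat_lit 7, nat_lit 4, nat_lit 8, nat_lit 8], (nat_lit 204882562), (nat_lit 0)) ::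
  ([nat_lit 1, nat_lit 2, nat_lit 3, nat_lit 2, nat_lit 1, nat_lit 4, nat_lit 3, nat_lit 2, nat_lit 8, nat_lit 4, nat_lit 8], (nat_lit 205333508), (nat_lit 0)) ::
  ([nat_lit 1, nat_lit 0, nat_lit 2, nat_lit 3, nat_lit 2, nat_lit 1, nat_lit 4, nat_lit 3, nat_lit 2, nat_lit 1, nat_lit 8, nat_lit 6], (nat_lit 206193450), (nat_lit 0)) ::
  ([nat_lit 1, nat_lit 0, nat_lit 2, nat_lit 3, nat_lit 2, nat_lit 1, nat_lit 0, nat_lit 4, nat_lit 3, nat_lit 2, nat_lit 7, nat_lit 5], (nat_lit 206458923), (nat_lit 0)) ::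
  ([nat_lit 1, nat_lit 2, nat_lit 3, nat_lit 2, nat_lit 1, nat_lit 4, nat_lit 3, nat_lit 2, nat_lit 8, nat_lit 4, nat_lit 8, nat_lit 6], (nat_lit 206967761), (nat_lit 0)) ::
  ([nat_lit 1, nat_lit 2, nat_lit 3], (nat_lit 208114197), (nat_lit 0)) ::
  ([nat_lit 1, nat_lit 0, nat_lit 2, nat_lit 3, nat_lit 2, nat_lit 1, nat_lit 0, nat_lit 4, nat_lit 3, nat_lit 8, nat_lit 4, nat_lit 8, nat_lit 4], (nat_lit 208418324), (nat_lit 0)) ::
  ([nat_lit 1, nat_lit 2, nat_lit 3, nat_lit 2, nat_lit 4, nat_lit 3, nat_lit 2, nat_lit 7, nat_lit 4], (nat_lit 209222232), (nat_lit 0)) ::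
  ([nat_lit 1, nat_lit 0, nat_lit 2, nat_lit 3, nat_lit 2, nat_lit 1, nat_lit 4, nat_lit 3, nat_lit 2, nat_lit 1, nat_lit 0, nat_lit 7, nat_lit 4], (nat_lit 209709459), (nat_lit 0)) ::
  ([nat_lit 1, nat_lit 0, nat_lit 2, nat_lit 3, nat_lit 2, nat_lit 1, nat_lit 0, nat_lit 4, nat_lit 3, nat_lit 2, nat_lit 7, nat_lit 4, nat_lit 6], (nat_lit 209768305), (nat_lit 0)) ::
  ([nat_lit 1, nat_lit 0, nat_lit 2, nat_lit 3, nat_lit 2, nat_lit 4, nat_lit 3, nat_lit 2, nat_lit 8, nat_lit 4, nat_lit 6, nat_lit 7], (nat_lit 209966814), (nat_lit 0)) ::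
  ([nat_lit 1, nat_lit 0, nat_lit 2, nat_lit 3, nat_lit 2, nat_lit 1, nat_lit 4, nat_lit 3, nat_lit 8, nat_lit 4, nat_lit 8], (nat_lit 211477865), (nat_lit 0)) ::
  ([nat_lit 1, nat_lit 0, nat_lit 2, nat_lit 3, nat_lit 2, nat_lit 4, nat_lit 3, nat_lit 2, nat_lit 1, nat_lit 7, nat_lit 5], (nat_lit 211988219), (nat_lit 0)) ::
  ([nat_lit 1, nat_lit 2, nat_lit 3, nat_lit 2, nat_lit 1, nat_lit 4, nat_lit 3, nat_lit 2, nat_lit 1, nat_lit 7, nat_lit 4, nat_lit 7, nat_lit 4], (nat_lit 213030242), (nat_lit 0)) ::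
  ([nat_lit 1, nat_lit 0, nat_lit 2, nat_lit 3, nat_lit 2, nat_lit 1, nat_lit 4, nat_lit 7], (nat_lit 213782945), (nat_lit 0)) ::
  ([nat_lit 1, nat_lit 2, nat_lit 3, nat_lit 2, nat_lit 4, nat_lit 3, nat_lit 2, nat_lit 7, nat_lit 4, nat_lit 3, nat_lit 8], (nat_lit 214406834), (nat_lit 0)) ::
  ([nat_lit 1, nat_lit 2, nat_lit 3, nat_lit 2, nat_lit 1, nat_lit 4, nat_lit 3, nat_lit 2, nat_lit 1, nat_lit 7, nat_lit 4, nat_lit 6, nat_lit 8], (nat_lit 214628766), (nat_lit 0)) ::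
  ([nat_lit 1, nat_lit 2, nat_lit 3, nat_lit 2, nat_lit 1, nat_lit 0, nat_lit 4, nat_lit 3, nat_lit 2, nat_lit 7, nat_lit 4, nat_lit 5], (nat_lit 215601908), (nat_lit 0)) ::
  ([nat_lit 1, nat_lit 2, nat_lit 3, nat_lit 2, nat_lit 4, nat_lit 3, nat_lit 2, nat_lit 1, nat_lit 0, nat_lit 8], (nat_lit 215603555), (nat_lit 0)) ::
  ([nat_lit 1, nat_lit 0, nat_lit 2, nat_lit 3, nat_lit 2, nat_lit 4, nat_lit 3, nat_lit 2], (nat_lit 219334867), (nat_lit 0)) ::
  ([nat_lit 1, nat_lit 2, nat_lit 3, nat_lit 2, nat_lit 4, nat_lit 3, nat_lit 2, nat_lit 8, nat_lit 4, nat_lit 3, nat_lit 8], (nat_lit 220707635), (nat_lit 0)) ::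
  ([nat_lit 1, nat_lit 0, nat_lit 2, nat_lit 1, nat_lit 3, nat_lit 4, nat_lit 7, nat_lit 4], (nat_lit 221137341), (nat_lit 0)) ::
  ([nat_lit 1, nat_lit 2, nat_lit 3, nat_lit 2, nat_lit 1, nat_lit 4, nat_lit 3, nat_lit 2, nat_lit 1, nat_lit 0, nat_lit 7, nat_lit 4, nat_lit 6], (nat_lit 221657100), (nat_lit 0)) ::
  ([nat_lit 1, nat_lit 2, nat_lit 3, nat_lit 2, nat_lit 4, nat_lit 3, nat_lit 2, nat_lit 7, nat_lit 4, nat_lit 3, nat_lit 5], (nat_lit 222185332), (nat_lit 0)) ::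
  ([nat_lit 1, nat_lit 2, nat_lit 3, nat_lit 2, nat_lit 4, nat_lit 3, nat_lit 2, nat_lit 7, nat_lit 4, nat_lit 3, nat_lit 7, nat_lit 7], (nat_lit 223824916), (nat_lit 0)) ::
  ([nat_lit 1, nat_lit 0, nat_lit 2, nat_lit 3, nat_lit 2, nat_lit 1, nat_lit 4, nat_lit 7, nat_lit 4], (nat_lit 224334502), (nat_lit 0)) ::
  clD200
noncomputable def clD100 : List (List ℕ × ℕ × ℕ) :=
  ([nat_lit 1, nat_lit 2, nat_lit 3, nat_lit 2, nat_lit 1, nat_lit 4, nat_lit 3, nat_lit 2, nat_lit 1, nat_lit 7], (nat_lit 123863970), (nat_lit 0)) ::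
  ([nat_lit 1, nat_lit 0, nat_lit 2, nat_lit 3, nat_lit 2, nat_lit 1, nat_lit 0, nat_lit 4, nat_lit 3, nat_lit 7, nat_lit 5], (nat_lit 124011494), (nat_lit 0)) ::
  ([nat_lit 1, nat_lit 2, nat_lit 3, nat_lit 2, nat_lit 1, nat_lit 0, nat_lit 4, nat_lit 3, nat_lit 7, nat_lit 4, nat_lit 7, nat_lit 6], (nat_lit 126666907), (nat_lit 0)) ::
  ([nat_lit 1, nat_lit 0, nat_lit 2, nat_lit 3, nat_lit 2, nat_lit 1, nat_lit 4, nat_lit 3, nat_lit 2, nat_lit 1, nat_lit 8, nat_lit 4, nat_lit 3], (nat_lit 127847332), (nat_lit 0)) ::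
  ([nat_lit 1, nat_lit 2, nat_lit 3, nat_lit 2, nat_lit 4, nat_lit 3, nat_lit 8, nat_lit 4, nat_lit 6], (nat_lit 129629739), (nat_lit 0)) ::
  ([nat_lit 1, nat_lit 2, nat_lit 3, nat_lit 2, nat_lit 4, nat_lit 3, nat_lit 2, nat_lit 7, nat_lit 4, nat_lit 3, nat_lit 2, nat_lit 1, nat_lit 8], (nat_lit 129942908), (nat_lit 0)) ::
  ([nat_lit 1, nat_lit 2, nat_lit 3, nat_lit 2, nat_lit 4, nat_lit 3, nat_lit 2, nat_lit 1, nat_lit 0], (nat_lit 134088508), (nat_lit 0)) ::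
  ([nat_lit 1, nat_lit 2, nat_lit 3, nat_lit 2, nat_lit 1, nat_lit 4, nat_lit 3, nat_lit 2, nat_lit 1], (nat_lit 134870146), (nat_lit 0)) ::
  ([nat_lit 1, nat_lit 0, nat_lit 2, nat_lit 3, nat_lit 2, nat_lit 4, nat_lit 3, nat_lit 2, nat_lit 7, nat_lit 6], (nat_lit 136240894), (nat_lit 0)) ::
  ([nat_lit 1, nat_lit 2, nat_lit 3, nat_lit 2, nat_lit 1, nat_lit 0, nat_lit 4, nat_lit 3, nat_lit 7, nat_lit 4, nat_lit 7, nat_lit 5], (nat_lit 136767215), (nat_lit 0)) ::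
  ([nat_lit 1, nat_lit 2, nat_lit 3, nat_lit 2, nat_lit 1, nat_lit 0, nat_lit 4, nat_lit 3, nat_lit 2, nat_lit 1, nat_lit 8, nat_lit 4, nat_lit 5], (nat_lit 138230246), (nat_lit 0)) ::
  ([nat_lit 1, nat_lit 0, nat_lit 2, nat_lit 3, nat_lit 2, nat_lit 1, nat_lit 0, nat_lit 4, nat_lit 3, nat_lit 2, nat_lit 7, nat_lit 4, nat_lit 8], (nat_lit 138350774), (nat_lit 0)) ::
  ([nat_lit 1, nat_lit 2, nat_lit 3, nat_lit 2, nat_lit 1, nat_lit 0, nat_lit 4, nat_lit 3, nat_lit 2, nat_lit 7, nat_lit 4, nat_lit 7, nat_lit 5], (nat_lit 138464922), (nat_lit 0)) ::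
  ([nat_lit 1, nat_lit 2, nat_lit 3, nat_lit 2, nat_lit 1, nat_lit 4, nat_lit 3, nat_lit 2, nat_lit 8, nat_lit 4, nat_lit 8, nat_lit 5], (nat_lit 139014013), (nat_lit 0)) ::
  ([nat_lit 1, nat_lit 0, nat_lit 2, nat_lit 3, nat_lit 2, nat_lit 1, nat_lit 4, nat_lit 3, nat_lit 2, nat_lit 8, nat_lit 4, nat_lit 7], (nat_lit 139931259), (nat_lit 0)) ::
  ([nat_lit 1, nat_lit 2, nat_lit 3, nat_lit 2, nat_lit 1, nat_lit 4, nat_lit 3, nat_lit 8, nat_lit 4], (nat_lit 140901879), (nat_lit 0)) ::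
  ([nat_lit 1, nat_lit 2, nat_lit 3, nat_lit 2, nat_lit 1, nat_lit 0, nat_lit 4, nat_lit 3, nat_lit 2, nat_lit 7, nat_lit 4, nat_lit 8, nat_lit 5], (nat_lit 141679944), (nat_lit 0)) ::
  ([nat_lit 1, nat_lit 2, nat_lit 3, nat_lit 2, nat_lit 1, nat_lit 0, nat_lit 4, nat_lit 3, nat_lit 7, nat_lit 4, nat_lit 7, nat_lit 4], (nat_lit 142921474), (nat_lit 0)) ::
  ([nat_lit 1, nat_lit 2, nat_lit 3, nat_lit 2, nat_lit 1, nat_lit 4, nat_lit 3, nat_lit 2, nat_lit 7, nat_lit 4, nat_lit 7, nat_lit 4, nat_lit 3], (nat_lit 144588533), (nat_lit 0)) ::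
  ([nat_lit 1, nat_lit 0, nat_lit 2, nat_lit 3, nat_lit 2, nat_lit 1, nat_lit 4, nat_lit 3, nat_lit 2, nat_lit 1, nat_lit 0, nat_lit 7, nat_lit 5], (nat_lit 147274829), (nat_lit 0)) ::
  ([nat_lit 1, nat_lit 2, nat_lit 3, nat_lit 2, nat_lit 1, nat_lit 0, nat_lit 4, nat_lit 3, nat_lit 2, nat_lit 1, nat_lit 0, nat_lit 7, nat_lit 4, nat_lit 7], (nat_lit 147557428), (nat_lit 0)) ::
  ([nat_lit 1, nat_lit 2, nat_lit 3, nat_lit 2, nat_lit 4, nat_lit 3, nat_lit 2, nat_lit 1, nat_lit 8, nat_lit 4, nat_lit 6, nat_lit 7], (nat_lit 148070447), (nat_lit 0)) ::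
  ([nat_lit 1, nat_lit 2, nat_lit 3, nat_lit 2, nat_lit 1, nat_lit 0, nat_lit 4, nat_lit 3, nat_lit 2, nat_lit 7, nat_lit 5], (nat_lit 148632687), (nat_lit 0)) ::
  ([nat_lit 1, nat_lit 2, nat_lit 3, nat_lit 2, nat_lit 1, nat_lit 4, nat_lit 3, nat_lit 2, nat_lit 7, nat_lit 4, nat_lit 8, nat_lit 8], (nat_lit 149151188), (nat_lit 0)) ::
  ([nat_lit 1, nat_lit 0, nat_lit 2, nat_lit 3, nat_lit 2, nat_lit 1, nat_lit 4, nat_lit 3, nat_lit 2, nat_lit 1, nat_lit 8, nat_lit 4, nat_lit 8], (nat_lit 149507042), (nat_lit 0)) ::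
  ([nat_lit 1, nat_lit 2, nat_lit 3, nat_lit 2, nat_lit 1, nat_lit 0, nat_lit 4, nat_lit 3, nat_lit 2, nat_lit 7, nat_lit 6], (nat_lit 150146936), (nat_lit 0)) ::
  ([nat_lit 1, nat_lit 2, nat_lit 3, nat_lit 2, nat_lit 4, nat_lit 3, nat_lit 7, nat_lit 4, nat_lit 3], (nat_lit 153616097), (nat_lit 0)) ::
  ([nat_lit 1, nat_lit 2, nat_lit 3, nat_lit 2, nat_lit 4, nat_lit 3, nat_lit 8, nat_lit 4, nat_lit 8, nat_lit 5], (nat_lit 153949132), (nat_lit 0)) ::
  ([nat_lit 1, nat_lit 0, nat_lit 2, nat_lit 3, nat_lit 2, nat_lit 1, nat_lit 4, nat_lit 3], (nat_lit 155153571), (nat_lit 0)) ::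
  ([nat_lit 1, nat_lit 0, nat_lit 2, nat_lit 3, nat_lit 2, nat_lit 1, nat_lit 4, nat_lit 3, nat_lit 2, nat_lit 1, nat_lit 0], (nat_lit 157559719), (nat_lit 0)) ::
  ([nat_lit 1, nat_lit 2, nat_lit 3, nat_lit 2, nat_lit 1, nat_lit 0, nat_lit 4, nat_lit 3, nat_lit 2, nat_lit 8, nat_lit 4], (nat_lit 160126643), (nat_lit 0)) ::
  ([nat_lit 1, nat_lit 2, nat_lit 3, nat_lit 2, nat_lit 4, nat_lit 3, nat_lit 2, nat_lit 1, nat_lit 8, nat_lit 4, nat_lit 5], (nat_lit 161255177), (nat_lit 0)) ::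
  ([nat_lit 1, nat_lit 0, nat_lit 2, nat_lit 1, nat_lit 3, nat_lit 2, nat_lit 1, nat_lit 4, nat_lit 8], (nat_lit 162551799), (nat_lit 0)) ::
  ([nat_lit 1, nat_lit 0, nat_lit 2, nat_lit 3, nat_lit 2, nat_lit 1, nat_lit 0, nat_lit 4, nat_lit 3, nat_lit 2, nat_lit 1, nat_lit 0, nat_lit 8, nat_lit 6], (nat_lit 164686804), (nat_lit 0)) ::
  ([nat_lit 1, nat_lit 2, nat_lit 3, nat_lit 2, nat_lit 4, nat_lit 3, nat_lit 2, nat_lit 7, nat_lit 4, nat_lit 3, nat_lit 2, nat_lit 1, nat_lit 0], (nat_lit 165503461), (nat_lit 0)) ::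
  ([nat_lit 1, nat_lit 2, nat_lit 3, nat_lit 2, nat_lit 1, nat_lit 4, nat_lit 3, nat_lit 2, nat_lit 1, nat_lit 3, nat_lit 8], (nat_lit 165840432), (nat_lit 0)) ::
  ([nat_lit 1, nat_lit 2, nat_lit 3, nat_lit 2, nat_lit 4, nat_lit 3, nat_lit 2, nat_lit 1, nat_lit 7, nat_lit 4, nat_lit 8, nat_lit 5], (nat_lit 167857278), (nat_lit 0)) ::
  ([nat_lit 1, nat_lit 0, nat_lit 2, nat_lit 3, nat_lit 2, nat_lit 1, nat_lit 0, nat_lit 4, nat_lit 3, nat_lit 2, nat_lit 1, nat_lit 0, nat_lit 8, nat_lit 5], (nat_lit 168621047), (nat_lit 0)) ::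
  ([nat_lit 1, nat_lit 0, nat_lit 2, nat_lit 3, nat_lit 2, nat_lit 4, nat_lit 3, nat_lit 7, nat_lit 6], (nat_lit 168922350), (nat_lit 0)) ::
  ([nat_lit 1, nat_lit 2, nat_lit 3, nat_lit 2, nat_lit 4, nat_lit 3, nat_lit 2, nat_lit 1, nat_lit 8, nat_lit 4, nat_lit 7], (nat_lit 177476387), (nat_lit 0)) ::
  ([nat_lit 1, nat_lit 0, nat_lit 2, nat_lit 3, nat_lit 2, nat_lit 1, nat_lit 4, nat_lit 3, nat_lit 7, nat_lit 4, nat_lit 6, nat_lit 7], (nat_lit 177980327), (nat_lit 0)) ::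
  ([nat_lit 1, nat_lit 2, nat_lit 3, nat_lit 2, nat_lit 1, nat_lit 0, nat_lit 4, nat_lit 3, nat_lit 2], (nat_lit 178228756), (nat_lit 0)) ::
  ([nat_lit 1, nat_lit 2, nat_lit 3, nat_lit 2, nat_lit 1], (nat_lit 178292593), (nat_lit 0)) ::
  ([nat_lit 1, nat_lit 0, nat_lit 2, nat_lit 3, nat_lit 2, nat_lit 1, nat_lit 4, nat_lit 3, nat_lit 2, nat_lit 8, nat_lit 4, nat_lit 3], (nat_lit 178833239), (nat_lit 0)) ::
  ([nat_lit 1, nat_lit 2, nat_lit 3, nat_lit 2, nat_lit 1, nat_lit 0, nat_lit 4, nat_lit 3, nat_lit 2, nat_lit 8, nat_lit 4, nat_lit 8, nat_lit 6], (nat_lit 179392479), (nat_lit 0)) ::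
  ([nat_lit 1, nat_lit 2, nat_lit 3, nat_lit 2, nat_lit 4, nat_lit 3, nat_lit 7, nat_lit 4, nat_lit 7, nat_lit 5], (nat_lit 179425336), (nat_lit 0)) ::
  ([nat_lit 1, nat_lit 2, nat_lit 3, nat_lit 2, nat_lit 4, nat_lit 3, nat_lit 2, nat_lit 1, nat_lit 7, nat_lit 4, nat_lit 3, nat_lit 7], (nat_lit 181112993), (nat_lit 0)) ::
  ([nat_lit 1, nat_lit 2, nat_lit 3, nat_lit 2, nat_lit 4, nat_lit 3, nat_lit 7, nat_lit 4, nat_lit 6, nat_lit 8], (nat_lit 182740563), (nat_lit 0)) ::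
  ([nat_lit 1, nat_lit 0, nat_lit 2, nat_lit 3, nat_lit 2, nat_lit 1, nat_lit 0, nat_lit 4, nat_lit 3, nat_lit 8, nat_lit 6], (nat_lit 182953969), (nat_lit 0)) ::
  ([nat_lit 1, nat_lit 2, nat_lit 3, nat_lit 2, nat_lit 1, nat_lit 0, nat_lit 4], (nat_lit 183162860), (nat_lit 0)) ::
  clD150
noncomputable def clD50 : List (List ℕ × ℕ × ℕ) :=
  ([nat_lit 1, nat_lit 0, nat_lit 2, nat_lit 3, nat_lit 2, nat_lit 1, nat_lit 0, nat_lit 4, nat_lit 3, nat_lit 2, nat_lit 1], (nat_lit 64851547), (nat_lit 0)) ::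
  ([nat_lit 1, nat_lit 2, nat_lit 3, nat_lit 2, nat_lit 4, nat_lit 3, nat_lit 2, nat_lit 7, nat_lit 4, nat_lit 3, nat_lit 6, nat_lit 7], (nat_lit 66954918), (nat_lit 0)) ::
  ([nat_lit 1, nat_lit 0, nat_lit 2, nat_lit 3, nat_lit 2, nat_lit 1, nat_lit 4, nat_lit 3, nat_lit 2, nat_lit 1], (nat_lit 66999466), (nat_lit 0)) ::
  ([nat_lit 1, nat_lit 0, nat_lit 2, nat_lit 3, nat_lit 2, nat_lit 1, nat_lit 0, nat_lit 4, nat_lit 3, nat_lit 2, nat_lit 1, nat_lit 7, nat_lit 4], (nat_lit 68004354), (nat_lit 0)) ::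
  ([nat_lit 1, nat_lit 0, nat_lit 2, nat_lit 3, nat_lit 2, nat_lit 1, nat_lit 4, nat_lit 3, nat_lit 2, nat_lit 7, nat_lit 4], (nat_lit 70290795), (nat_lit 0)) ::
  ([nat_lit 1, nat_lit 0, nat_lit 2, nat_lit 3, nat_lit 2, nat_lit 4, nat_lit 3, nat_lit 2, nat_lit 1, nat_lit 0, nat_lit 8, nat_lit 4], (nat_lit 72166611), (nat_lit 0)) ::
  ([nat_lit 1, nat_lit 2, nat_lit 3, nat_lit 2, nat_lit 1, nat_lit 4, nat_lit 3, nat_lit 2, nat_lit 7, nat_lit 4, nat_lit 5, nat_lit 8], (nat_lit 72514602), (nat_lit 0)) ::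
  ([nat_lit 1, nat_lit 0, nat_lit 2, nat_lit 3, nat_lit 2, nat_lit 1, nat_lit 4, nat_lit 3, nat_lit 7, nat_lit 4, nat_lit 7, nat_lit 4], (nat_lit 73118936), (nat_lit 0)) ::
  ([nat_lit 1, nat_lit 0, nat_lit 2, nat_lit 3, nat_lit 2, nat_lit 1, nat_lit 4, nat_lit 3, nat_lit 2, nat_lit 1, nat_lit 0, nat_lit 8, nat_lit 4, nat_lit 6], (nat_lit 74336907), (nat_lit 0)) ::
  ([nat_lit 1, nat_lit 2, nat_lit 3, nat_lit 2, nat_lit 4, nat_lit 3, nat_lit 2, nat_lit 8, nat_lit 4, nat_lit 7], (nat_lit 74656941), (nat_lit 0)) ::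
  ([nat_lit 1, nat_lit 2, nat_lit 3, nat_lit 2, nat_lit 1, nat_lit 0, nat_lit 4, nat_lit 3, nat_lit 2, nat_lit 3, nat_lit 8, nat_lit 5], (nat_lit 78374182), (nat_lit 0)) ::
  ([nat_lit 1, nat_lit 0, nat_lit 2, nat_lit 3, nat_lit 2, nat_lit 1, nat_lit 0, nat_lit 4, nat_lit 3, nat_lit 8], (nat_lit 78567146), (nat_lit 0)) ::
  ([nat_lit 1, nat_lit 2, nat_lit 3, nat_lit 2, nat_lit 1, nat_lit 0], (nat_lit 78818909), (nat_lit 0)) ::
  ([nat_lit 1, nat_lit 2, nat_lit 3, nat_lit 2, nat_lit 1, nat_lit 0, nat_lit 4, nat_lit 3, nat_lit 2, nat_lit 1, nat_lit 8, nat_lit 4, nat_lit 6, nat_lit 7], (nat_lit 79464708), (nat_lit 0)) ::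
  ([nat_lit 1, nat_lit 2, nat_lit 3, nat_lit 2, nat_lit 1, nat_lit 0, nat_lit 4, nat_lit 3, nat_lit 7, nat_lit 4, nat_lit 6], (nat_lit 81898099), (nat_lit 0)) ::
  ([nat_lit 1, nat_lit 0, nat_lit 2, nat_lit 3, nat_lit 2, nat_lit 4, nat_lit 3, nat_lit 2, nat_lit 8, nat_lit 4, nat_lit 3], (nat_lit 83154303), (nat_lit 0)) ::
  ([nat_lit 1, nat_lit 0, nat_lit 2, nat_lit 3, nat_lit 2, nat_lit 1, nat_lit 4, nat_lit 3, nat_lit 2, nat_lit 7, nat_lit 4, nat_lit 7], (nat_lit 85252479), (nat_lit 0)) ::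
  ([nat_lit 1], (nat_lit 85891343), (nat_lit 0)) ::
  ([nat_lit 1, nat_lit 2, nat_lit 3, nat_lit 2, nat_lit 1, nat_lit 4, nat_lit 8, nat_lit 5], (nat_lit 86265240), (nat_lit 0)) ::
  ([nat_lit 1, nat_lit 0, nat_lit 2, nat_lit 3, nat_lit 2, nat_lit 1, nat_lit 4, nat_lit 3, nat_lit 2, nat_lit 7, nat_lit 5], (nat_lit 86386033), (nat_lit 0)) ::
  ([nat_lit 1, nat_lit 2, nat_lit 3, nat_lit 2, nat_lit 1, nat_lit 4, nat_lit 3, nat_lit 2, nat_lit 1, nat_lit 0, nat_lit 3, nat_lit 8, nat_lit 6], (nat_lit 86948339), (nat_lit 0)) ::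
  ([nat_lit 1, nat_lit 2, nat_lit 3, nat_lit 2, nat_lit 1, nat_lit 4, nat_lit 3, nat_lit 2, nat_lit 1, nat_lit 7, nat_lit 4, nat_lit 8, nat_lit 8], (nat_lit 88108924), (nat_lit 0)) ::
  ([nat_lit 1, nat_lit 0, nat_lit 2, nat_lit 3, nat_lit 2, nat_lit 4, nat_lit 3, nat_lit 2, nat_lit 7, nat_lit 4], (nat_lit 89468345), (nat_lit 0)) ::
  ([nat_lit 1, nat_lit 0, nat_lit 2, nat_lit 1, nat_lit 3, nat_lit 2, nat_lit 1, nat_lit 0, nat_lit 3], (nat_lit 90240678), (nat_lit 0)) ::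
  ([nat_lit 1, nat_lit 0, nat_lit 2, nat_lit 3, nat_lit 2, nat_lit 4, nat_lit 3, nat_lit 2, nat_lit 1, nat_lit 0, nat_lit 8, nat_lit 5], (nat_lit 90864736), (nat_lit 0)) ::
  ([nat_lit 1, nat_lit 0, nat_lit 2, nat_lit 3, nat_lit 2, nat_lit 1, nat_lit 4, nat_lit 3, nat_lit 8, nat_lit 4, nat_lit 6], (nat_lit 96081937), (nat_lit 0)) ::
  ([nat_lit 1, nat_lit 0, nat_lit 2, nat_lit 3, nat_lit 2, nat_lit 4, nat_lit 3, nat_lit 8, nat_lit 4, nat_lit 6, nat_lit 7], (nat_lit 99637601), (nat_lit 0)) ::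
  ([nat_lit 1, nat_lit 2, nat_lit 3, nat_lit 2, nat_lit 1, nat_lit 4, nat_lit 3, nat_lit 7, nat_lit 4, nat_lit 3], (nat_lit 101725661), (nat_lit 0)) ::
  ([nat_lit 1, nat_lit 2, nat_lit 3, nat_lit 4, nat_lit 8, nat_lit 5], (nat_lit 102894196), (nat_lit 0)) ::
  ([nat_lit 1, nat_lit 2, nat_lit 3, nat_lit 2, nat_lit 1, nat_lit 0, nat_lit 4, nat_lit 3, nat_lit 2, nat_lit 1, nat_lit 0, nat_lit 7, nat_lit 4, nat_lit 8], (nat_lit 103197617), (nat_lit 0)) ::
  ([nat_lit 1, nat_lit 0, nat_lit 2, nat_lit 3, nat_lit 2, nat_lit 1, nat_lit 4, nat_lit 3, nat_lit 2, nat_lit 7, nat_lit 4, nat_lit 3], (nat_lit 104448177), (nat_lit 0)) ::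
  ([nat_lit 1, nat_lit 0, nat_lit 2, nat_lit 3, nat_lit 2, nat_lit 1, nat_lit 0, nat_lit 4, nat_lit 3, nat_lit 2, nat_lit 8, nat_lit 6], (nat_lit 104520767), (nat_lit 0)) ::
  ([nat_lit 1, nat_lit 2, nat_lit 3, nat_lit 2, nat_lit 4, nat_lit 3, nat_lit 2, nat_lit 1, nat_lit 7, nat_lit 4, nat_lit 7, nat_lit 6], (nat_lit 105633817), (nat_lit 0)) ::
  ([nat_lit 1, nat_lit 0, nat_lit 2, nat_lit 3, nat_lit 2, nat_lit 1, nat_lit 4, nat_lit 3, nat_lit 2, nat_lit 1, nat_lit 7, nat_lit 4, nat_lit 3], (nat_lit 105768505), (nat_lit 0)) ::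
  ([nat_lit 1, nat_lit 0, nat_lit 2, nat_lit 3, nat_lit 4, nat_lit 7, nat_lit 4], (nat_lit 105858114), (nat_lit 0)) ::
  ([nat_lit 1, nat_lit 2, nat_lit 3, nat_lit 2, nat_lit 1, nat_lit 4, nat_lit 3, nat_lit 2, nat_lit 3, nat_lit 7, nat_lit 6], (nat_lit 106860802), (nat_lit 0)) ::
  ([nat_lit 1, nat_lit 2, nat_lit 3, nat_lit 2, nat_lit 4, nat_lit 3, nat_lit 2, nat_lit 1, nat_lit 7, nat_lit 4, nat_lit 3, nat_lit 2, nat_lit 3, nat_lit 7], (nat_lit 107046376), (nat_lit 0)) ::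
  ([nat_lit 1, nat_lit 0, nat_lit 2, nat_lit 1, nat_lit 3], (nat_lit 107168468), (nat_lit 0)) ::
  ([nat_lit 1, nat_lit 2, nat_lit 3, nat_lit 2, nat_lit 1, nat_lit 4, nat_lit 3, nat_lit 2, nat_lit 1, nat_lit 3], (nat_lit 107202894), (nat_lit 0)) ::
  ([nat_lit 1, nat_lit 2, nat_lit 3, nat_lit 2, nat_lit 1, nat_lit 4, nat_lit 3, nat_lit 7, nat_lit 4, nat_lit 6, nat_lit 8], (nat_lit 107476545), (nat_lit 0)) ::
  ([nat_lit 1, nat_lit 2, nat_lit 3, nat_lit 2, nat_lit 4, nat_lit 3, nat_lit 2, nat_lit 1, nat_lit 0, nat_lit 7, nat_lit 4, nat_lit 3, nat_lit 2], (nat_lit 116119462), (nat_lit 0)) ::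
  ([nat_lit 1, nat_lit 2, nat_lit 3, nat_lit 2, nat_lit 4, nat_lit 3, nat_lit 2, nat_lit 1, nat_lit 7, nat_lit 4, nat_lit 3, nat_lit 2, nat_lit 5], (nat_lit 117532640), (nat_lit 0)) ::
  ([nat_lit 1, nat_lit 2, nat_lit 3, nat_lit 2, nat_lit 4, nat_lit 3, nat_lit 2, nat_lit 7, nat_lit 4, nat_lit 3, nat_lit 2, nat_lit 1, nat_lit 7, nat_lit 7], (nat_lit 118179748), (nat_lit 0)) ::
  ([nat_lit 1, nat_lit 0, nat_lit 2, nat_lit 3, nat_lit 2, nat_lit 1, nat_lit 0, nat_lit 4, nat_lit 3, nat_lit 2, nat_lit 1, nat_lit 0, nat_lit 7, nat_lit 5], (nat_lit 118697172), (nat_lit 0)) ::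
  ([nat_lit 1, nat_lit 2, nat_lit 3, nat_lit 2, nat_lit 1, nat_lit 4, nat_lit 3, nat_lit 2, nat_lit 1, nat_lit 7, nat_lit 4, nat_lit 6], (nat_lit 119189107), (nat_lit 0)) ::
  ([nat_lit 1, nat_lit 2, nat_lit 3, nat_lit 2, nat_lit 4, nat_lit 3, nat_lit 2, nat_lit 8, nat_lit 4, nat_lit 3, nat_lit 2, nat_lit 3], (nat_lit 120171511), (nat_lit 0)) ::
  ([nat_lit 1, nat_lit 2, nat_lit 3, nat_lit 2, nat_lit 1, nat_lit 0, nat_lit 4, nat_lit 3, nat_lit 7, nat_lit 4, nat_lit 7], (nat_lit 122153913), (nat_lit 0)) ::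
  ([nat_lit 1, nat_lit 2, nat_lit 3, nat_lit 2, nat_lit 4, nat_lit 3, nat_lit 2, nat_lit 7, nat_lit 4, nat_lit 3, nat_lit 2, nat_lit 1, nat_lit 3], (nat_lit 123053278), (nat_lit 0)) ::
  ([nat_lit 1, nat_lit 2, nat_lit 3, nat_lit 2, nat_lit 4, nat_lit 3, nat_lit 2, nat_lit 1, nat_lit 8, nat_lit 4, nat_lit 8], (nat_lit 123157385), (nat_lit 0)) ::
  ([nat_lit 1, nat_lit 2, nat_lit 3, nat_lit 2, nat_lit 1, nat_lit 4, nat_lit 3, nat_lit 2, nat_lit 1, nat_lit 7, nat_lit 6], (nat_lit 123242765), (nat_lit 0)) ::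
  clD100
noncomputable def clD : List (List ℕ × ℕ × ℕ) :=
  ([nat_lit 1, nat_lit 0], (nat_lit 2714378), (nat_lit 0)) ::
  ([nat_lit 1, nat_lit 0, nat_lit 2, nat_lit 3, nat_lit 2, nat_lit 4, nat_lit 3, nat_lit 2, nat_lit 8, nat_lit 4, nat_lit 3, nat_lit 2, nat_lit 6], (nat_lit 3919387), (nat_lit 0)) ::
  ([nat_lit 1, nat_lit 0, nat_lit 2, nat_lit 3, nat_lit 2, nat_lit 1, nat_lit 4, nat_lit 3, nat_lit 8, nat_lit 4, nat_lit 6, nat_lit 7], (nat_lit 5056803), (nat_lit 0)) ::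
  ([nat_lit 1, nat_lit 2, nat_lit 3, nat_lit 2, nat_lit 1, nat_lit 4, nat_lit 3, nat_lit 2, nat_lit 3], (nat_lit 5238254), (nat_lit 0)) ::
  ([nat_lit 1, nat_lit 2, nat_lit 3, nat_lit 2, nat_lit 1, nat_lit 4, nat_lit 3, nat_lit 2, nat_lit 8, nat_lit 4, nat_lit 6, nat_lit 7], (nat_lit 6754385), (nat_lit 0)) ::
  ([nat_lit 1, nat_lit 2, nat_lit 3, nat_lit 2, nat_lit 1, nat_lit 4, nat_lit 3, nat_lit 2, nat_lit 1, nat_lit 3, nat_lit 2, nat_lit 8, nat_lit 6], (nat_lit 7512445), (nat_lit 0)) ::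
  ([nat_lit 1, nat_lit 2, nat_lit 3, nat_lit 2, nat_lit 1, nat_lit 4, nat_lit 3, nat_lit 2, nat_lit 1, nat_lit 0, nat_lit 7, nat_lit 4, nat_lit 5], (nat_lit 7905046), (nat_lit 0)) ::
  ([nat_lit 1, nat_lit 0, nat_lit 2, nat_lit 3, nat_lit 2, nat_lit 4, nat_lit 3, nat_lit 2, nat_lit 1, nat_lit 0, nat_lit 7], (nat_lit 9912581), (nat_lit 0)) ::
  ([nat_lit 1, nat_lit 0, nat_lit 2, nat_lit 3, nat_lit 2, nat_lit 1, nat_lit 4, nat_lit 3, nat_lit 2, nat_lit 8, nat_lit 5], (nat_lit 12645687), (nat_lit 0)) ::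
  ([nat_lit 1, nat_lit 2, nat_lit 3, nat_lit 2, nat_lit 1, nat_lit 4, nat_lit 3, nat_lit 2, nat_lit 1, nat_lit 3, nat_lit 2, nat_lit 8], (nat_lit 13270245), (nat_lit 0)) ::
  ([nat_lit 1, nat_lit 2, nat_lit 3, nat_lit 2, nat_lit 1, nat_lit 0, nat_lit 4, nat_lit 3, nat_lit 2, nat_lit 1, nat_lit 3, nat_lit 7, nat_lit 6], (nat_lit 14958819), (nat_lit 0)) ::
  ([nat_lit 1, nat_lit 2, nat_lit 3, nat_lit 2, nat_lit 4, nat_lit 3, nat_lit 2, nat_lit 1, nat_lit 7, nat_lit 4, nat_lit 6, nat_lit 7], (nat_lit 17283259), (nat_lit 0)) ::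
  ([nat_lit 1, nat_lit 2, nat_lit 3, nat_lit 2, nat_lit 1, nat_lit 0, nat_lit 4, nat_lit 3, nat_lit 8], (nat_lit 17709359), (nat_lit 0)) ::
  ([nat_lit 1, nat_lit 2, nat_lit 3, nat_lit 2, nat_lit 1, nat_lit 4, nat_lit 3, nat_lit 2, nat_lit 1, nat_lit 3, nat_lit 7, nat_lit 6], (nat_lit 18621936), (nat_lit 0)) ::
  ([nat_lit 1, nat_lit 2, nat_lit 3, nat_lit 2, nat_lit 4, nat_lit 3, nat_lit 2, nat_lit 1, nat_lit 8, nat_lit 4, nat_lit 7, nat_lit 6], (nat_lit 20735372), (nat_lit 0)) ::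
  ([nat_lit 1, nat_lit 2, nat_lit 3, nat_lit 2, nat_lit 4, nat_lit 3, nat_lit 2, nat_lit 1, nat_lit 0, nat_lit 8, nat_lit 4, nat_lit 6], (nat_lit 21871361), (nat_lit 0)) ::
  ([nat_lit 1, nat_lit 2, nat_lit 3, nat_lit 2, nat_lit 1, nat_lit 4, nat_lit 3, nat_lit 2, nat_lit 1, nat_lit 0, nat_lit 7, nat_lit 4, nat_lit 7], (nat_lit 22024755), (nat_lit 0)) ::
  ([nat_lit 1, nat_lit 0, nat_lit 2, nat_lit 3, nat_lit 2, nat_lit 4, nat_lit 3, nat_lit 2, nat_lit 1, nat_lit 0, nat_lit 7, nat_lit 6], (nat_lit 22746553), (nat_lit 0)) ::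
  ([nat_lit 1, nat_lit 0, nat_lit 2, nat_lit 3, nat_lit 2, nat_lit 1, nat_lit 0, nat_lit 4, nat_lit 3, nat_lit 2, nat_lit 7, nat_lit 4, nat_lit 7, nat_lit 4], (nat_lit 23709081), (nat_lit 0)) ::
  ([nat_lit 1, nat_lit 0, nat_lit 2, nat_lit 3, nat_lit 2, nat_lit 1, nat_lit 0, nat_lit 4, nat_lit 3, nat_lit 2, nat_lit 1, nat_lit 7, nat_lit 4, nat_lit 7], (nat_lit 24598917), (nat_lit 0)) ::
  ([nat_lit 1, nat_lit 2, nat_lit 3, nat_lit 2, nat_lit 1, nat_lit 0, nat_lit 4, nat_lit 3, nat_lit 2, nat_lit 1, nat_lit 0, nat_lit 7, nat_lit 4, nat_lit 6], (nat_lit 25009225), (nat_lit 0)) ::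
  ([nat_lit 1, nat_lit 2, nat_lit 3, nat_lit 2, nat_lit 4, nat_lit 3, nat_lit 2, nat_lit 1, nat_lit 8, nat_lit 4, nat_lit 6], (nat_lit 26651574), (nat_lit 0)) ::
  ([nat_lit 1, nat_lit 2, nat_lit 3, nat_lit 2, nat_lit 1, nat_lit 0, nat_lit 4, nat_lit 3, nat_lit 2, nat_lit 8, nat_lit 4, nat_lit 8, nat_lit 4], (nat_lit 30453806), (nat_lit 0)) ::
  ([nat_lit 1, nat_lit 0, nat_lit 2, nat_lit 3, nat_lit 2, nat_lit 4, nat_lit 3, nat_lit 2, nat_lit 8, nat_lit 4], (nat_lit 32653810), (nat_lit 0)) ::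
  ([nat_lit 1, nat_lit 2, nat_lit 3, nat_lit 2, nat_lit 1, nat_lit 4, nat_lit 3, nat_lit 2, nat_lit 7, nat_lit 4, nat_lit 5], (nat_lit 32763196), (nat_lit 0)) ::
  ([nat_lit 1, nat_lit 0, nat_lit 2, nat_lit 1, nat_lit 3, nat_lit 4, nat_lit 8, nat_lit 5], (nat_lit 34031854), (nat_lit 0)) ::
  ([nat_lit 1, nat_lit 0, nat_lit 2, nat_lit 3, nat_lit 2, nat_lit 1, nat_lit 0, nat_lit 4, nat_lit 3, nat_lit 2, nat_lit 7, nat_lit 4], (nat_lit 34340384), (nat_lit 0)) ::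
  ([nat_lit 1, nat_lit 2, nat_lit 3, nat_lit 2, nat_lit 1, nat_lit 0, nat_lit 4, nat_lit 3, nat_lit 2, nat_lit 8, nat_lit 4, nat_lit 6], (nat_lit 37747595), (nat_lit 0)) ::
  ([nat_lit 1, nat_lit 2, nat_lit 3, nat_lit 2, nat_lit 4, nat_lit 3, nat_lit 8, nat_lit 4, nat_lit 8], (nat_lit 38580957), (nat_lit 0)) ::
  ([nat_lit 1, nat_lit 2, nat_lit 3, nat_lit 2, nat_lit 1, nat_lit 4, nat_lit 3, nat_lit 2, nat_lit 1, nat_lit 7, nat_lit 4, nat_lit 6, nat_lit 7], (nat_lit 39476249), (nat_lit 0)) ::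
  ([nat_lit 1, nat_lit 0, nat_lit 2, nat_lit 3, nat_lit 2, nat_lit 4, nat_lit 3, nat_lit 2, nat_lit 8, nat_lit 4, nat_lit 7], (nat_lit 39857551), (nat_lit 0)) ::
  ([nat_lit 1, nat_lit 0, nat_lit 2, nat_lit 3, nat_lit 2, nat_lit 1, nat_lit 0, nat_lit 4, nat_lit 3, nat_lit 7, nat_lit 4, nat_lit 6, nat_lit 7], (nat_lit 40112651), (nat_lit 0)) ::
  ([nat_lit 1, nat_lit 2, nat_lit 3, nat_lit 2, nat_lit 4, nat_lit 3, nat_lit 2, nat_lit 7, nat_lit 4, nat_lit 7, nat_lit 4], (nat_lit 42215313), (nat_lit 0)) ::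
  ([nat_lit 1, nat_lit 2, nat_lit 3, nat_lit 2, nat_lit 1, nat_lit 4, nat_lit 3, nat_lit 2, nat_lit 1, nat_lit 8, nat_lit 4, nat_lit 8], (nat_lit 42906420), (nat_lit 0)) ::
  ([nat_lit 1, nat_lit 2, nat_lit 3, nat_lit 2, nat_lit 1, nat_lit 0, nat_lit 4, nat_lit 3, nat_lit 2, nat_lit 1, nat_lit 8, nat_lit 4, nat_lit 6], (nat_lit 43184947), (nat_lit 0)) ::
  ([nat_lit 1, nat_lit 0, nat_lit 2, nat_lit 3, nat_lit 2, nat_lit 4, nat_lit 3, nat_lit 2, nat_lit 7, nat_lit 4, nat_lit 3, nat_lit 2], (nat_lit 43483409), (nat_lit 0)) ::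
  ([nat_lit 1, nat_lit 0, nat_lit 2, nat_lit 3, nat_lit 2, nat_lit 1, nat_lit 0, nat_lit 4, nat_lit 3, nat_lit 7, nat_lit 4, nat_lit 8], (nat_lit 43754408), (nat_lit 0)) ::
  ([nat_lit 1, nat_lit 2, nat_lit 3, nat_lit 2, nat_lit 4, nat_lit 3, nat_lit 8, nat_lit 4, nat_lit 6, nat_lit 7], (nat_lit 45067140), (nat_lit 0)) ::
  ([nat_lit 1, nat_lit 2, nat_lit 3, nat_lit 2, nat_lit 4, nat_lit 3, nat_lit 7, nat_lit 6], (nat_lit 49699182), (nat_lit 0)) ::
  ([nat_lit 1, nat_lit 2, nat_lit 3, nat_lit 2, nat_lit 1, nat_lit 4, nat_lit 3, nat_lit 2, nat_lit 1, nat_lit 8, nat_lit 4, nat_lit 6], (nat_lit 51423542), (nat_lit 0)) ::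
  ([nat_lit 1, nat_lit 2, nat_lit 3, nat_lit 2, nat_lit 1, nat_lit 0, nat_lit 4, nat_lit 3, nat_lit 2, nat_lit 3, nat_lit 7, nat_lit 5], (nat_lit 52170990), (nat_lit 0)) ::
  ([nat_lit 1, nat_lit 0, nat_lit 2, nat_lit 3, nat_lit 2, nat_lit 1, nat_lit 4, nat_lit 3, nat_lit 7, nat_lit 4, nat_lit 6], (nat_lit 52585225), (nat_lit 0)) ::
  ([nat_lit 1, nat_lit 0, nat_lit 2, nat_lit 3, nat_lit 2, nat_lit 4, nat_lit 3, nat_lit 2, nat_lit 1, nat_lit 7, nat_lit 4, nat_lit 8], (nat_lit 55103567), (nat_lit 0)) ::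
  ([nat_lit 1, nat_lit 2, nat_lit 3, nat_lit 2, nat_lit 1, nat_lit 0, nat_lit 4, nat_lit 3, nat_lit 2, nat_lit 1, nat_lit 7, nat_lit 6], (nat_lit 56333546), (nat_lit 0)) ::
  ([nat_lit 1, nat_lit 0, nat_lit 2, nat_lit 3, nat_lit 2, nat_lit 1, nat_lit 0, nat_lit 4, nat_lit 3, nat_lit 2, nat_lit 1, nat_lit 0, nat_lit 7], (nat_lit 56494346), (nat_lit 0)) ::
  ([nat_lit 1, nat_lit 0, nat_lit 2, nat_lit 3, nat_lit 2, nat_lit 4, nat_lit 3, nat_lit 2, nat_lit 7, nat_lit 4, nat_lit 3, nat_lit 6], (nat_lit 57012393), (nat_lit 0)) ::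
  ([nat_lit 1, nat_lit 2, nat_lit 3, nat_lit 2, nat_lit 1, nat_lit 0, nat_lit 4, nat_lit 7, nat_lit 5], (nat_lit 57184842), (nat_lit 0)) ::
  ([nat_lit 1, nat_lit 0, nat_lit 2, nat_lit 3, nat_lit 2, nat_lit 4, nat_lit 3, nat_lit 2, nat_lit 8, nat_lit 6], (nat_lit 57474524), (nat_lit 0)) ::
  ([nat_lit 1, nat_lit 2, nat_lit 3, nat_lit 2, nat_lit 1, nat_lit 4, nat_lit 3, nat_lit 2, nat_lit 8, nat_lit 5], (nat_lit 61387507), (nat_lit 0)) ::
  ([nat_lit 1, nat_lit 2, nat_lit 3, nat_lit 2, nat_lit 1, nat_lit 0, nat_lit 4, nat_lit 3, nat_lit 2, nat_lit 1, nat_lit 0, nat_lit 7, nat_lit 5], (nat_lit 62914189), (nat_lit 0)) ::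
  clD50
def clq : FP 11 248 3 := FP.std 11 248 3 10 11 683
theorem clok : clq.OK := FP.std_ok (by decide +kernel)
noncomputable def cl : DC.Cm := ⟨Iv, sL, [nat_lit 0], clD, (nat_lit 9), (nat_lit 10), (jn (nat_lit 16384) (jn (nat_lit 8192) (nat_lit 0x4020000100402004010040100802000010000200000004010080100002000000080100401008020080100001008000080100000000000040200402008010080100000008020040000802004020040000402004020000200801004020000200400000010080000002004010040200800004000040200800000010000100800008020040000000008020040100002000010000100002004020040100000000000040200401000010080000001008010080000800008010000200802008000000200400004000080100800004000040200802008020000000801000020000100401000020040200400008000080100800000000000100001000000080100001004020000000002004000040000002004020080000401004010000100800000010040100000000020040200400000010040100401000000040100400004010080100001008000000000802004000000200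8010040100000000020080100800004010040100802000010040000001000000080000002004020040200401008000000200800008000000100002008010080200802000020040200800004000080200001008020040000800004010040000801000000000000400000000000100402000010040100001004010000000001000010040000401008010040100800004000080000402004000080200801004010000100800000020000000002000010080000001000010000000400004000000200002008010000200002008020000100401004020080200000004020000200002004000040100002004020000100000004020040100802008010080100000008010080200801000010040200802004020040200802000000080100400004020080200002008010080200801000020080200002004020040200000000020000200002004000080200802004010040000802000020040000801000020040200800004020040100802008010040200402004020000200000004010080200800004020080100802004000080200001008020080000801008020080100002000000040000000004020000200801000010000100401004000000100401008010040200801008000080100000000010040000800004000040000400000000080000402000000080200002000000080100402008020080000401004010040200002008010040000400008020000200801000020080200801004010080100801000020080000000008000000200402008020080100001000020040100402000000080200400004020080200801000020040100800004000080100801008010040000802004020080200402000010080200000008020040000401000020000100002004010000200002004000080100002008000000000400008000080100402000020040100001000000040200401004000040000800)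 (nat_lit 0x200002008000000000002004020040200000004010040100001004020040100802000000080200002000000040100401008020000000800004010040100402000020080200800004000080100802008010080000402004010000200801008000040100401008020000200402008000080200400004000080200001008020000000801004000080000801004010040000001008000040000401008000040100002004000040000002008020080000400000000040100000000010000100001004000000000401004010080000400004000000100001008020040000801008010000000400004000080000800008020040200800008000000100002008020040000801004000000000801000010000200802000000040100002000020040000002004020080100400004000080200800008000000200400008010000000402000020080000001000000080000800004010080000802008010080100000000010000000000004000080100000008010040100802000020080000401004020000200002008010080200802008020040200000004020080000402000000040100802008000040100802008000000200000000000000200000000010080100401004010000200001008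00004000000200002008020000100001008000080000401008000080000002004000000000802008020000000001000020080000802000020000100401008010080100001008020040100802000020040200402008020000100802000010000000801008000040000801004000080100400008000000100402008010040200800008000080100800008000000000001008020080000401004000080000400000020000100802000000040100002008020040000000004010080000801004010000200002004000000000002008020040100001000000040000802000010040000401004020040000000000010000200002008020000200001008010000000002000020080000001000020000100401004020080200801008020080200000004020040100000008010080200400008010080100402008000040000801004020080200001000000040200400000010040000000000010080100801000020080200800008010080000000004000000100000000000080100000004000000200000008000000100801004000000200801000000040100802000010040200001004020000200401008020080100400000010040200401000020000000401004020080200000008020000100001000020080000802000010000200000004020040000401000010000000402004000040100002000020080000801008010080200400000010040200400008010040100400008000080200401008020000200801000020040100000000020000000802004000080100001004000000200))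 (jn (nat_lit 8192) (nat_lit 0x10000200001008000000000801008010080000800008000000100402004010080200402004000080200800004020000000400004000080000000000010000000802004020080100001004010040000402008000080200400004000040200400008020000200401004020080100801004020080200400004000040000402008010000000000008020000100000000010040000001004020040200401008000000000800008010040200802000000080200000008010000100802000020040200402004000080000000000000080100402000020000100402008010040200400008000000000000004010080000802000020000100002004000000000000008020040100000000020040100002000010080000800000000000200800004020000100001000010000200001000000000000401008000040100001004020000100000008000080000401004000040200001004020040000401004020080100001008000000100801000010000000001000020000000801000020000200402008010040100802000020040100400000000080100001004000040100002008010000200001008020000200002000010080100000004020000100002000000080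100801004010080000400004000080100800004000000100401000000080200802004020000200001004000000200002000000080000401000020040000802008000000000801004000040000402004000080000800004010080200802008000000100401008000000100401008010000200801000010040200402000010080000800008010040000001000000080000401008020000000001000010000000802000020080000802008020080200001008010040000400000020080100000004000040000400004000000200000004000000000802004010080200002008000000200802008010000200402000020080000801000000080200802004010080200802008000040100000004000000100801000000000200402000000080100401004010000000402004020040200402000020000000800008020080200401000000000100001000010000000802000000040000800000010000100402008020080100002008020000100802000000040000801004020080200400008000080000400004000000000001000020040000002008010000200402008020040200001000010000200801008020000100400008020080100801000000000200800004020080100000000020000000802008020040100401008010080200001000020000000802008000000200401008000000200400004000000100001008000080200000008010000200000008000080100402004000040000800008000000000802004020080100802000000040100401008000000200400000020000100000008000000)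 (nat_lit 0x80200400004020000100401000020080100401008020000100801008020080200801000020000000000004020040100800008020080100800008000080100800000000040100802008000040000000000010000000801008000000200801000010040200400004020000200802008000000100802000010080100002004010000200000000020080200000004000040000002000000080000001000020000000800004000000100802000010000200402008020080200002000020000100802000010080000801008010000100802008000080200001000010040000001000000040100002004000080200801008010000000400004010080200002000000040200401000010080200001000000040200401008020000000400000000040100800004000080100000000010080100400000010080000401004020000100000008000000200002004000000000000004010))), (nat_lit 1000000007), (jn (nat_lit 32768) (jn (nat_lit 16384) (jn (nat_lit 8192) (nat_lit 0x800000000000000000000000000000004001000000000000000000000000000000000000000000000000000000000001000000000100800000000000000000001000000000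000200000000a00000000001000000000000000000000000000000000000020000000000000000000000000001000000040000000800004000000000000000000000000000000000008000000000000000000000000000000000000000000000000000000000000000000000000000000000040000010000000000000000000000000000000000000000000000000000000000000000000000100000200000000000000000000000000000200000000000000008002020000100000000000002000000020000000000000000020000000000000000000020000000000000000000000000000000000000000000000004000000000000000000040000000000002000000000000000080000000010000000000000000000100002000000000000000000000000000008000000000000000000000100000000000000000021000001000000000000000000000000010000000000810000000000000000000000000000040002000002000000000000000000840000000080000000000000000004000000200000240000800000000000000000000000000000000400000000010004000000000000000000020000200000000000000000000000000000000000000000000000000000300000400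0000000000000000000000000000080000000000000000000000000000000000000000000000000000000000000000000000000000040000000000000000000000000000010800000000000000010000000000000000000000000100800000000080000000000000000004000000000000000000000000000000000000000000080000000000000200000010000000000000000000000000000000001000000800000000000000000000000001200000000000000000000000000000000000000000000000000000000400000000000200000000000000000000010000000000000000000001000000000000000000000000000020000000000000000000000000000010000000000000000000000000000000000000000000000000000000000000040000000000000000000000000002008000000000000000000000000000000000000000000000000000000400000000020000000000400000000000000000000000000000000000000000000000020000000000040000000000000000000000000000000000000000000000000000000000000000000008000000000000000200000000000000000000000000000400000000002000000000000000000000000000000000000000000000001000000000000000000000000000000000000802000000800001000800)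 (nat_lit 0x802000000000000000000000000000000000000000000000000000000000000002000000000000000000040000000000000000140000000000000000008000000000020000000000000000000000400000000000020000220000008040001001400000000000000000000000000000800000000000020000000000001020000100000000000000000000000000002000000000000000000000000000000000000000000000000000000000800000000100000000000000010000000000000000000004000000000000000000080040000000000000000000000800000000000000000000000000000010000000000000000000000000000000080002000100000000000040000000000000000000000000000000000000100000200000000000000008000000000000000000000000000000000000000010000000000100000000000002000000000800000000000000000000000000000000000000000000000000000000000000000000000000000000000040000000000000000000000000000000000000000000000000000000000000000000000000000000000000000000000000000000000100000000000000000000000000000000020000000000000000000000000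0000002000000000000000000000000000000000000000000000000000000000000000000000010000200000000000000000000000000080000000000000000020000000000000000020000000000000000000000000000000000000101000000000000000000082000800000000000000000000000000000000000000000000001200000000008000000000000100000000000000000000020000000000180000200020000000000000000000000000000000000000000000000000000000010000000080400000000000000000000000000000040000000000000000000000000000000002000000000004000000000000000000000400000000000000000000000000000000000000000000000000000040000800000000000800000000000000000000000000000000000000000000000000000000100000000000000000000000000000020000000001000000000000000000000000000000000000000000020000000000000000000000000000000000000000000400000100000000004001000400200000000002000000000000000000000000810000001000002400000000000000000000000000020000000000000000000000100000000000000000000000000000010000000000000000000000000000010000000000400000000000000088000800000000000000000000000000001000000000000000000004000000000000000000000000000000000000000000000000000000000000000000000000020010000000000000020000100000000000000000))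 (jn (nat_lit 8192) (nat_lit 0x80000200000800000000080000000100000000000000000000804000000000000000000000000000000000000000000400000000000002000000000000000000000000000000000000000000000000000000000000000000000000000000000000000000000000000000000000000000000000000000000000000000000000000000000000000000002000004002800000000000000000000000000000000000000000000000000000000000004000001000000002000000080000800000000000000000200000000000000000080010000000010000000000000000000000000000000800010000000000000000000000000000000000000000000000000000000000000000000000010000000000000000000000000000000000000000000000000000040000000000000100000000000000000000000000040000000000000000000000000000000000000000000000000000000000802000101000000000000000000000000000000000000000000000000000000000000000000000000000000000000000000000000000000000000000000000000000000000000000000000020000000000800008000000800000000000080000000000000000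0080000000000000000000000040000000000000000000000000280000000000000000800000000000000000000000000000080000000000000000000000000000000020000004014001002100000000004000400000000000000800000000000000000000000000000000000040000000000020000000000000100280000000048000000000000000000400000000000000001000000000000000000000000000040000000040000000000800000008000000000000000000000000000000000000000000200000000000000000000000000000000000000000000000000040000000000001000000000000000000000000000800000000000000000000000002000080000000001002000000001100000000080000000000000000000000800000100000000000000000000000000000000000000000000000000000000000000000000000000000000000000000000000800000000000000000000400000800000000000008000000000800000000000000000400000010000000000000004000002000000000000000000000000000000000000000040000000000000000000010000000010000000000040000000000000000040000000010000000040000000000000000000000000000080400000000000000000000008040200000000800000000400000000000000200000000000000000000000000000000)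 (nat_lit 0x4000000000000000000000100000000000000000000000000000000000000000000000000000000000000000000000000000000000000040000000000000000000000000000000000000000000000000040000000000000000000002000000000000000000001000000000001000000010000040000080020000000000000000000000000000200000008000000000000000000000000000000000000000800004000000000000000400000000100000000000000000000000000000000000000000000004000000000000000000000000000008000000000004080000000000000000000000000000000000000000008000000000000000000a0000000000040000000000000000000000000000000000000000000000000000000000000000081000000000000000000000000000000000020000000000000000000000000000000000000000000001000004000000000000010000000000000000000000000000010080000000000000000001000000000000000000000000800000400000000000000000000000000020000000000000200000000000000000000000000000080000000000000000000000800000000000000000200000040000000000000000000000000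00000000080000000000000000000000000000000000000000000000000000000000000000000000000000000000000000000000004000000000000000000000000010080004004000080000000000080000000000000000000000000000000000000000000000000000000000000080000000000000000000000000000000080000000000000000000000000000000000000000000000000000000000000000000000000000000000000000000000000000000000010000000000000000000500000000000000000000000000000090040000000400000000000000000000000000000000000020002000040000000100000000000000000000000000000000000000000000000000040000000000000000000000000000000000000000000000000000000000800000000000000000000000000001000400000000000404000000000000000040000000000000000004000000000000000000000000000000000000000000000800000000000000000003000001000000000000000000000010000000000000000000800000000000400000000000800000000000000000000000000000000080000000000000000000000000000000000000000000000000000000000001010001000000000000000200000000000010000002000000000000000000000000000000020080000000000000000020000000000000000000000000000000000000000000010001000000000000000000000020000000000000000000000000000000001000800000002000)))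 (jn (nat_lit 16384) (jn (nat_lit 8192) (nat_lit 0x100000002000000000000002000400000000000000000000000000000000000000000000000000800000000000000000000000000000000000000000000000000000000000000000000000000000000000000100000000000000000001800000000000000000002000000000000000000000000000000000000000000000000000000000000000000000000000000000000000000000000000000000000000000000000000000000000000000000000000000000000000008000000000000000000000000000000000000000840008000000000000000000000000000000000000100000000000000000000100000000000000000000000000000000000000000000000000000000800000000000000002000000000000000000400000000800000000000000000000000000000000000000000000000000000000000080000000000000400000000000000000000000000000400000000000000000000000000000000000020080000000008000000000000000000000080080000000000000000000000000200000001000000000000000000000000000000000000000000000000000000000400000000000020000000000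0008020000000000000000000000008104000540000000000000000000c00000000002000000000080200040000000000000000000000000000000000000000000000000080080000000000080000000000000000000000000000000200000000000100000000000000000000000000000188000000000081000010001000000000000000000000000000000000000008000000000000000008000000000000400000000000000002000000000000000000000000000110400200000000000000000000000000000000000100000000000000008000000000000000000000000000000000000000000400000000000000800000000020080000000000000000000000000000000000000000000010000000000000000000000100002010000000000000000000000000000000000000000000000000000000000004000000000000000020000002000000000000000200000000000000000000000000000002004000000000000000000000000000000000000000000001000000000000000000000000000000000000080000000000000001000000000000000100000000000000000200000000001000000000000000020000000000000000000000000000000800000000000000000000000000800000008000000020000020000000200000000000000000000000000002000000000000000000000000000080000000000000000000000000000200000800000000000000008000000000000200000000000000000000000000000000000000000020000000000000000000000000)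 (nat_lit 0x100000000000004000040008000000000800000000000000000000000000000000000000000000000000000000000000000000000002000000000000000000000000000000000000080000020000000400000000000000000000010000000040000000000000000000000000000000040000000000000000000000000000000000000000000000000000000000000008000000000002000000000000000200000000000000000000000000000000000000000000000000084000200000000000000000000000000000000000000000000000280000000000000000000000180000000800000000002000000001000020000000000000000000000000000000000800000000000000000000000000000000000004000000000000000000100009000000000000000010000000000000000000000000000000000000000000100000000000000000000000000000000000000000000000000000000100000020000000000000004000000000000000000000000000000000000000000200000000000000000000000000000000000000100000000000080008000020000000000000000000000000000000000000000000000000000000000000000000000000000008000000000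000000000000000000000000000000000000000000000000000000000000000000000000000800000004000080000000000008000000000000000000000000001000000000008000000000000000000080008000000000000800000000000000008000020000000000000000000000000000000048000080000000000800000000000001000000000000000000000000000000000000000000000000000000000000800000000000000000000000000008010000000000000420000000000100000000000000000040000000000000000000000000000000000000000002000000800000000000002000000000000050400000000000000000000000000000000200000000000008040000000000000000080000008000000000000180000000000000000200000000000000000000000020000000000000000000600000000000000000000040000000000000000000000000000000000000000400000000000200000000000000000000008000000000000000000000000000000000000000000000000000000000000000000000000000000400100000200000000000000000002000000000000000000000000000000000000000000000001000000000000002000000000000000000010000000000000000000000000000000000400000000000000000000000000000000000000000000000000000000000000000000200000000000000000000000000000000000000000000000020002081000000000000000000100008000000000000000))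 (jn (nat_lit 8192) (nat_lit 0x80000000000000040010000000000000000000000000000000004000000000002000000000000000000000000008000000000000000000000000000000000010040000000040000000000000000000000100000000040000000000000000000000000000082000000000000000900000000080000000000004000008000000000000000000000000000000000000010000000000000000000000000040000000000000000000000400000000000000000000000020000000001000000000000000000000000000200000800000080000000004000400000000000000000000000000000000000000000040000000800000000000000002000000000010000000000000000040002000000000000000000000000000000080000000000480400000000000000000000000000000000000000000000000000000000000000000000000000000000000000080000000000000000000000000000000000000002000000000000000000000000000000200000000000000000000000000000000000000001002000000000000000000000000000000001000000000000010020000000000000000000000000000000000000000000000000000000000000000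0000000000000000802000000000000000000000000000000000000000000000020000000000000000000000000000200000008000010000000000020000000080000000000000000000000000000200000000000000000000000000040000001000000000000000000400000000000000000000000000000008000000000000000000000000000000000000000000000000000010000000000000000000000000000000000000000000000000000000000002000000000000000000000000000000000000000000100000000000000000000000000000000000808000000000000000000000000000000000000000000000000000000080001000000000400000000000000000000000080000000000000000400020000000000000000000000000080000000000000c0000000000000000000000000000000000000000000000000000000000000000000000000000000080010000000000000000000040000000000000000000000000000000000400000000000000000000000000000000000000000000000000020000001000000022000000000000000000000000000000800000000200000000000800000000000000000008000000000000000000000000000000000000800000000800000000000000000000000000000000000000000002000000000000000000020000000000000001000000000000000000000000000000000000200000000000000020000000000001000000000000000000000000080000000200000000000000000000000000000000000000040000)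 (nat_lit 0x20000000000000000000020000000000000000000000008010000000000800000100000000000000000000000000000000000000000000000000000000000000000000000000400000000000020000000000080200000000000040000000000000000000000000000000008000000000000000000000000000000000000000000000000000000000020000000000000000000100000000000000000000800000800000000000000004000000000000000000000000000080000000000000000000000080000000001000000000000000000000000000c000000000000000000000000000000000000000000100000000000000800800000000000000000000000000000000000084000000000000000000000000200010000000000000000010008000000000000000000000008400000000000000080004000000000020000400000000000000000000000040000800000000000000002000000000000920000000000000008800000000000000000200000000000080000000002000000000000000000000000000000000080000000000000000000000000000000000000080000000010000000000000000080000000000000001000001000001000000000500000000000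0200000000000000000000000000000000000000000800000000000000000000000000000000200000000000010000000000000000800000000000000000000000001000000000020000000000000000000100000000000040000000000000001001000000000000000000800010100000000000000000000000000000000000000000000000000000000000000000000000000000000000000000100000020000000000000000001000000000000200000000000000000000000000000000000000000000000000000000000000008000100000000000000000000000000000000020480000000000000000000000000000000000000000a000004000000000000000100000080000000000000000000000000020000000000000000000020000000000000000000000000000000020000000000000000080000000000000000000800000000000000000000000020000000000080000000000000000000000000000000000000002000000000100000040000000a000020004008000000000008000000000000000000000000000000000000000000000000000000008000040000000000000000000000000000000000000000010000000800000000000000000000000000000000000000000000400000000000000028000000000000000000000000010000000000000000000020000000000000000000000000000000000000000000000000000000000000000000000080000))))⟩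

end H16.THk
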